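import Cfsg.Agent.H722.DihP

/-!
# Real elements of prime order at least five

`R5 G`: some element of prime order `p ≥ 5` is inverted by a 2-element.
-/

set_option autoImplicit false

namespace Cfsg.Agent.H327.D5

open Subgroup Cfsg.Agent.H722.RealP

variable {G H : Type*} [Group G] [Group H]

/-- some element of prime order `p ≥ 5` is inverted by a 2-element -/
def R5 (G : Type*) [Group G] : Prop := ∃ p : ℕ, p.Prime ∧ 5 ≤ p ∧ HasReal p G

theorem inv_ne_self {p : ℕ} (hp : p.Prime) (h5 : 5 ≤ p) {x : G} (hx : orderOf x = p) : x⁻¹ ≠ x := by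
  intro h
  have h1 : x ^ 2 = 1 := by
    rw [pow_two]
    nth_rewrite 1 [← h]
    exact inv_mul_cancel x
  have h2 := orderOf_dvd_of_pow_eq_one h1
  rw [hx] at h2
  have := Nat.le_of_dvd (by norm_num) h2
  omega

theorem hasReal_map {p : ℕ} (hp : p.Prime) (h5 : 5 ≤ p) (f : G →* H) (hf : f.ker ≤ center G) (h : HasReal p G) :
    HasReal p H := by
  obtain ⟨x, t, hx, ⟨k, hk⟩, htx⟩ := h
  have h1 : f x ≠ 1 := by
    intro h1
    have h2 := mem_center_iff.1 (hf h1) t
    apply inv_ne_self hp h5 hx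
    rw [← htx, h2]
    group
  refine ⟨f x, f t, ?_, ?_, ?_⟩
  · have : Fact p.Prime := ⟨hp⟩
    exact orderOf_eq_prime (by rw [← map_pow, ← hx, pow_orderOf_eq_one, map_one]) h1
  · have h2 : orderOf (f t) ∣ 2 ^ k := hk ▸ orderOf_map_dvd f t
    obtain ⟨j, -, hj⟩ := (Nat.dvd_prime_pow Nat.prime_two).1 h2
    exact ⟨j, hj⟩
  · rw [← map_inv, ← map_mul, ← map_mul, htx, map_inv]

theorem R5.map (f : G →* H) (hf : f.ker ≤ center G) (h : R5 G) : R5 H := by
  obtain ⟨p, hp, h5, h⟩ := h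
  exact ⟨p, hp, h5, hasReal_map hp h5 f hf h⟩

theorem R5.of_injective (f : G →* H) (hf : Function.Injective f) (h : R5 G) : R5 H :=
  h.map f (by rw [(MonoidHom.ker_eq_bot_iff f).2 hf]; exact bot_le)

theorem R5.congr (e : G ≃* H) (h : R5 G) : R5 H := h.of_injective e.toMonoidHom e.injective

theorem R5.of_subgroup {K : Subgroup G} (h : R5 K) : R5 G := h.of_injective K.subtype K.subtype_injective

theorem R5.quotient (N : Subgroup G) [N.Normal] (hN : N ≤ center G) (h : R5 G) : R5 (G ⧸ N) :=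
  h.map (QuotientGroup.mk' N) (by rw [QuotientGroup.ker_mk']; exact hN)

theorem R5.of_involves [Finite G] (h : Lib.Involves.Involves G H) (hH : R5 H) : R5 G := by
  obtain ⟨p, hp, h5, hH⟩ := hH
  have : Fact p.Prime := ⟨hp⟩
  exact ⟨p, hp, h5, hH.of_involves (by omega) h⟩

theorem R5.of_surjective [Finite G] (f : G →* H) (hf : Function.Surjective f) (hH : R5 H) : R5 G :=
  hH.of_involves (Lib.Involves.of_surjective f hf)

theorem R5.of_quotient [Finite G] {N : Subgroup G} [N.Normal] (h : R5 (G ⧸ N)) : R5 G :=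
  h.of_surjective (QuotientGroup.mk' N) (QuotientGroup.mk'_surjective N)

/-- a hom onto a group with real elements, from a subgroup -/
theorem R5.of_map_subgroup [Finite G] {K : Subgroup G} (f : K →* H) (hf : Function.Surjective f) (hH : R5 H) : R5 G :=
  (hH.of_surjective f hf).of_subgroup

/-- real elements -/
theorem R5.of_real [Finite G] {p : ℕ} (hp : p.Prime) (h5 : 5 ≤ p) {x g : G} (hx : x ^ p = 1) (hx1 : x ≠ 1)
    (h : g * x * g⁻¹ = x⁻¹) : R5 G := by
  have : Fact p.Prime := ⟨hp⟩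
  exact ⟨p, hp, h5, hasReal_of_isConj (orderOf_eq_prime hx hx1) (isConj_iff.2 ⟨g, h⟩)⟩

/-- real elements, in the form `g x = x⁻¹ g` -/
theorem R5.of_real' [Finite G] {p : ℕ} (hp : p.Prime) (h5 : 5 ≤ p) {x g : G} (hx : x ^ p = 1) (hx1 : x ≠ 1)
    (h : x * g * x = g) : R5 G := by
  refine R5.of_real hp h5 hx hx1 (g := g) ?_
  have h1 : g * x = x⁻¹ * g := by
    rw [eq_inv_mul_iff_mul_eq, ← mul_assoc]
    exact h
  rw [h1, mul_inv_cancel_right]

/-- the dihedral section -/
theorem R5.exists_dihedral (h : R5 G) : ∃ p : ℕ, p.Prime ∧ 5 ≤ p ∧ Lib.Involves.Involves G (DihedralGroup p) := by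
  obtain ⟨p, hp, h5, h⟩ := h
  have : Fact p.Prime := ⟨hp⟩
  exact ⟨p, hp, h5, involves_dihedral (by omega) h⟩

/-- the form of the statement -/
theorem R5.false_of (h : R5 G) (hD : ∀ p : ℕ, p.Prime → 3 < p → ∀ (H : Subgroup G) (N : Subgroup ↥H) [N.Normal],
    IsEmpty (↥H ⧸ N ≃* DihedralGroup p)) : False := by
  obtain ⟨p, hp, h5, H, f, hf⟩ := h.exists_dihedral
  exact (hD p hp (by omega) H f.ker).false (QuotientGroup.quotientKerEquivOfSurjective f hf)

end Cfsg.Agent.H327.D5
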