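import Cfsg.Agent.H327.D5.Base

/-!
# Simple groups with cyclic Sylow `p`-subgroups, `p` a Fermat prime
-/

set_option autoImplicit false

namespace Cfsg.Agent.H327.D5

open Subgroup Cfsg.Agent.H722.RealP

/-- cyclic Sylow `p`-subgroups of a simple group, `p` a Fermat prime -/
theorem hasReal_of_cyclic {G : Type*} [Group G] [Finite G] (hs : IsSimpleGroup G) (hna : ¬ IsMulCommutative G) {p k : ℕ}
    (hp : p.Prime) (hk : p = 2 ^ k + 1) (hpG : p ∣ Nat.card G) (P : Sylow p G) (hP : IsCyclic P) : HasReal p G := by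
  have : Fact p.Prime := ⟨hp⟩
  -- the normalizer does not centralize
  obtain ⟨g, hgN, hgC⟩ : ∃ g ∈ normalizer ((P : Subgroup G) : Set G), g ∉ centralizer ((P : Subgroup G) : Set G) := by
    by_contra hno
    push Not at hno
    have hle : normalizer ((P : Subgroup G) : Set G) ≤ centralizer ((P : Subgroup G) : Set G) := hno
    have hcomp := MonoidHom.ker_transferSylow_isComplement' P hle
    have hcard := hcomp.card_mul_card
    have hnd := MonoidHom.not_dvd_card_ker_transferSylow P hle
    rcases (MonoidHom.normal_ker (MonoidHom.transferSylow P hle)).eq_bot_or_eq_top with h | h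
    · rw [h, card_bot, one_mul] at hcard
      apply hna
      have h1 : (P : Subgroup G) = ⊤ := Subgroup.eq_top_of_card_eq _ hcard
      have h2 : IsCyclic (⊤ : Subgroup G) := by rw [← h1]; exact hP
      have h3 : IsCyclic G := isCyclic_of_surjective (Subgroup.topEquiv (G := G)) (Subgroup.topEquiv (G := G)).surjective
      exact ⟨⟨fun a b => (IsCyclic.commGroup (α := G)).mul_comm a b⟩⟩
    · rw [h, card_top] at hnd
      exact hnd hpG
  let N : Subgroup G := normalizer ((P : Subgroup G) : Set G)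
  let f : N →* MulAut (P : Subgroup G) := normalizerMonoidHom (P : Subgroup G)
  have hf : ∀ (x : N) (y : (P : Subgroup G)), ((f x y : (P : Subgroup G)) : G) = x * (y : G) * (x : G)⁻¹ :=
    fun x y => rfl
  -- the order of the range
  have hcop : ¬ p ∣ Nat.card f.range := by
    intro h
    have hPN : (P : Subgroup G).subgroupOf N ≤ f.ker := by
      intro x hx
      rw [MonoidHom.mem_ker]
      ext y
      rw [hf, MulAut.one_apply]
      have hx' : (x : G) ∈ (P : Subgroup G) := hx
      have hc := (IsCyclic.commGroup (α := (P : Subgroup G))).mul_comm ⟨x, hx'⟩ y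
      have hc' : (x : G) * y = y * x := congrArg Subtype.val hc
      rw [hc', mul_inv_cancel_right]
    have h1 : p ∣ f.ker.index := by
      rw [Subgroup.index_ker]
      exact h
    have h2 : f.ker.index ∣ ((P : Subgroup G).subgroupOf N).index := Subgroup.index_dvd_of_le hPN
    have h3 : ((P : Subgroup G).subgroupOf N).index ∣ (P : Subgroup G).index := by
      rw [← Subgroup.relIndex]
      exact Subgroup.relIndex_dvd_index_of_le le_normalizer
    exact P.not_dvd_index (h1.trans (h2.trans h3))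
  have hcardP : ∃ n, Nat.card P = p ^ n := (IsPGroup.iff_card (p := p)).1 P.isPGroup'
  obtain ⟨n, hn⟩ := hcardP
  have hrange : Nat.card f.range ∣ 2 ^ k := by
    have h1 : Nat.card f.range ∣ Nat.card (MulAut (P : Subgroup G)) := Subgroup.card_subgroup_dvd_card _
    have h2 : Nat.card (MulAut (P : Subgroup G)) = (p ^ n).totient := by
      rw [IsCyclic.card_mulAut, hn]
    rw [h2] at h1
    have h3 : (p ^ n).totient ∣ p ^ n * 2 ^ k := by
      rcases n with _ | n
      · simp
      · rw [Nat.totient_prime_pow_succ hp, hk, Nat.add_sub_cancel, ← hk]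
        exact mul_dvd_mul (pow_dvd_pow p (Nat.le_succ n)) dvd_rfl
    exact (Nat.Coprime.pow_right n ((Nat.Prime.coprime_iff_not_dvd hp).2 hcop).symm).dvd_of_dvd_mul_left (h1.trans h3)
  let φ : f.range := ⟨f ⟨g, hgN⟩, ⟨_, rfl⟩⟩
  have hφ1 : φ ≠ 1 := by
    intro h
    apply hgC
    rw [mem_centralizer_iff]
    intro y hy
    have h1 : f ⟨g, hgN⟩ = 1 := congrArg Subtype.val h
    have h2 := hf ⟨g, hgN⟩ ⟨y, hy⟩
    rw [h1, MulAut.one_apply] at h2
    exact (eq_mul_inv_iff_mul_eq.1 h2)
  obtain ⟨j, m, hm, hjm⟩ := Nat.exists_eq_two_pow_mul_odd (orderOf_pos g).ne'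
  refine hasReal_of_act (R := (P : Subgroup G)) (t := g ^ m) P.isPGroup' ⟨j, ?_⟩ ?_ ?_
  · rw [orderOf_pow_of_dvd (by rintro rfl; simp at hm) (by rw [hjm]; exact Dvd.intro_left _ rfl), hjm]
    exact Nat.mul_div_cancel _ hm.pos
  · intro y hy
    exact (mem_normalizer_iff.1 (pow_mem hgN m) y).1 hy
  · by_contra hno
    push Not at hno
    have hm1 : φ ^ m = 1 := by
      apply Subtype.ext
      show f ⟨g, hgN⟩ ^ m = 1
      rw [← map_pow]
      ext y
      rw [hf, MulAut.one_apply]
      exact hno _ y.2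
    have h2k : φ ^ 2 ^ k = 1 := by
      apply orderOf_dvd_iff_pow_eq_one.1
      exact (orderOf_dvd_natCard φ).trans hrange
    have hco : Nat.Coprime (2 ^ k) m := Nat.Coprime.pow_left _ (Nat.coprime_two_left.2 hm)
    have h1 : φ = 1 := by
      have := pow_gcd_eq_one.2 ⟨h2k, hm1⟩
      rwa [hco.gcd_eq_one, pow_one] at this
    exact hφ1 h1

/-- cyclic Sylow 5-subgroups -/
theorem R5.of_cyclic {G : Type*} [Group G] [Finite G] (hs : IsSimpleGroup G) (hna : ¬ IsMulCommutative G)
    (h5 : 5 ∣ Nat.card G) (h : ∀ P : Sylow 5 G, IsCyclic P) : R5 G := by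
  obtain ⟨P⟩ : Nonempty (Sylow 5 G) := inferInstance
  exact ⟨5, by norm_num, le_rfl, hasReal_of_cyclic hs hna (k := 2) (by norm_num) (by norm_num) h5 P (h P)⟩

/-- a cyclic Sylow 5-subgroup, from an element -/
theorem R5.of_orderOf {G : Type*} [Group G] [Finite G] (hs : IsSimpleGroup G) (hna : ¬ IsMulCommutative G)
    (h5 : 5 ∣ Nat.card G) {x : G} (hx : orderOf x = 5 ^ (Nat.card G).factorization 5) : R5 G := by
  have : Fact (Nat.Prime 5) := ⟨by norm_num⟩
  have hcard : Nat.card ↥(Subgroup.zpowers x) = 5 ^ (Nat.card G).factorization 5 := by rw [Nat.card_zpowers, hx]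
  exact ⟨5, by norm_num, le_rfl, hasReal_of_cyclic hs hna (k := 2) (by norm_num) (by norm_num) h5
    (Sylow.ofCard (Subgroup.zpowers x) hcard) (inferInstanceAs (IsCyclic ↥(Subgroup.zpowers x)))⟩

end Cfsg.Agent.H327.D5
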