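import Cfsg.Agent.H327.D5.Cyc
import Cfsg.Agent.H720.RowSeven
import Cfsg.Agent.H720.RowTriD4
import Cfsg.Agent.H720.DefChar
import Cfsg.Agent.S1059
import Cfsg.Agent.S1062
import Cfsg.Agent.S1063
import Cfsg.Agent.S1065
import Cfsg.Agent.S1066
import Cfsg.Agent.S1067

/-!
# Real elements of prime order at least five in the exceptional groups
-/

set_option autoImplicit false
set_option linter.unusedSectionVars false

namespace Cfsg.Agent.H327.D5

open Cfsg Cfsg.Lie Cfsg.Agent.H722.RealP Cfsg.Agent.H720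

universe u

/-- Fermat's little theorem -/
theorem dvd_pow_sub_one {p q : ℕ} (hp : p.Prime) (h : ¬ p ∣ q) {k : ℕ} (hk : p - 1 ∣ k) : p ∣ q ^ k - 1 := by
  obtain ⟨m, rfl⟩ := hk
  have hco : q.Coprime p := ((Nat.Prime.coprime_iff_not_dvd hp).2 h).symm
  have h1 : q ^ ((p - 1) * m) ≡ 1 [MOD p] := by
    rw [pow_mul]
    have := Nat.ModEq.pow_totient hco
    rw [Nat.totient_prime hp] at this
    calc (q ^ (p - 1)) ^ m ≡ 1 ^ m [MOD p] := this.pow m
      _ = 1 := one_pow m
  have h2 : 0 < q := Nat.pos_of_ne_zero (by rintro rfl; exact h (dvd_zero _))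
  exact (Nat.modEq_iff_dvd' (Nat.one_le_pow _ _ h2)).1 h1.symm

/-- a prime dividing the order of a finite field is the characteristic -/
theorem charP_of_dvd {F : Type u} [Field F] [Fintype F] {p : ℕ} (hp : p.Prime) (h : p ∣ Fintype.card F) : CharP F p := by
  obtain ⟨r, hr⟩ := CharP.exists F
  have hrp : r.Prime := (CharP.char_is_prime_or_zero F r).resolve_right (CharP.char_ne_zero_of_finite F r)
  have : Fact r.Prime := ⟨hrp⟩
  obtain ⟨n, -, hn⟩ := FiniteField.card F r
  rw [hn] at h
  have := (Nat.prime_dvd_prime_iff_eq hp hrp).1 (hp.dvd_of_dvd_pow h)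
  rw [this]
  exact hr

theorem R5.of_hasReal {G : Type*} [Group G] {p : ℕ} (hp : p.Prime) (h5 : 5 ≤ p) (h : HasReal p G) : R5 G :=
  ⟨p, hp, h5, h⟩

variable {F : Type u} [Field F] [Fintype F]

theorem r5_G2 : R5 (chevG2.group F) := by
  have : Fact (Nat.Prime 7) := ⟨by norm_num⟩
  refine R5.of_hasReal (p := 7) (by norm_num) (by norm_num) ?_
  by_cases h : 7 ∣ Fintype.card F
  · have := charP_of_dvd (by norm_num) h
    exact DefChar.G2
  · refine RowsNeg.G2 rfl (by norm_num) h ?_
    rw [S1059.result rfl]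
    exact (dvd_pow_sub_one (by norm_num) h (by norm_num)).mul_left _

theorem r5_F4 : R5 (chevF4.group F) := by
  have : Fact (Nat.Prime 5) := ⟨by norm_num⟩
  refine R5.of_hasReal (p := 5) (by norm_num) (by norm_num) ?_
  by_cases h : 5 ∣ Fintype.card F
  · have := charP_of_dvd (by norm_num) h
    exact DefChar.F4
  · refine RowsNeg.F4 rfl (by norm_num) h ?_
    rw [S1062.result rfl]
    exact (dvd_pow_sub_one (by norm_num) h (by norm_num)).mul_left _

theorem r5_E8 : R5 (chevE8.group F) := by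
  have : Fact (Nat.Prime 5) := ⟨by norm_num⟩
  refine R5.of_hasReal (p := 5) (by norm_num) (by norm_num) ?_
  by_cases h : 5 ∣ Fintype.card F
  · have := charP_of_dvd (by norm_num) h
    exact DefChar.E8
  · refine RowsNeg.E8 rfl (by norm_num) h ?_
    rw [S1065.result rfl]
    exact ((dvd_pow_sub_one (by norm_num) h (by norm_num : 5 - 1 ∣ 24)).mul_left _).mul_right _

theorem r5_E6 : R5 (chevE6.group F) := by
  have : Fact (Nat.Prime 5) := ⟨by norm_num⟩
  refine R5.of_hasReal (p := 5) (by norm_num) (by norm_num) ?_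
  by_cases h : 5 ∣ Fintype.card F
  · have := charP_of_dvd (by norm_num) h
    exact DefChar.E6
  · have h1 : 5 ∣ Nat.card ↥(chevE6.group F) := by
      have h2 : 5 ∣ Nat.gcd 3 (Fintype.card F - 1) * Nat.card ↥(chevE6.group F) := by
        rw [S1063.result rfl]
        exact (dvd_pow_sub_one (by norm_num) h (by norm_num)).mul_left _
      refine (Nat.Coprime.dvd_mul_left ?_).1 h2
      exact Nat.Coprime.coprime_dvd_right (Nat.gcd_dvd_left _ _) (by norm_num)
    rcases RowsSix.E6' rfl (by norm_num) (by norm_num) h h1 with h2 | ⟨h2, -⟩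
    · exact h2
    · exfalso
      have h3 : orderOf ((Fintype.card F : ℕ) : ZMod 5) ∣ 4 := by
        refine orderOf_dvd_of_pow_eq_one ?_
        refine ZMod.pow_card_sub_one_eq_one ?_
        intro h0
        exact h ((ZMod.natCast_eq_zero_iff _ _).1 h0)
      have h4 := Nat.le_of_dvd (by norm_num) h3
      omega

theorem r5_E7 [Finite ↥(chevE7.group F)] : R5 (chevE7.group F) := r5_E6.of_involves (RowSeven.involves67 F)

/-- the `q`-power map on `K`, `|K| = q ^ m` -/
theorem exists_frob {K : Type u} [Field K] [Fintype K] {q m : ℕ} (hq : IsPrimePow q) (hm : 0 < m)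
    (hK : Fintype.card K = q ^ m) : ∃ φ : K →+* K, ∀ x, φ x = x ^ q := by
  obtain ⟨φ, hφ⟩ := ChevalleyStructure.TwistedE6Sigma.exists_frob (K := K) (m := m) hq (by omega) hK
  exact ⟨φ, hφ⟩

theorem r5_TwD4 {K : Type u} [Field K] [Fintype K] {q : ℕ} (hq : IsPrimePow q) (hK : Fintype.card K = q ^ 3) :
    R5 ↥(twistedD4 K q) := by
  have : Fact (Nat.Prime 7) := ⟨by norm_num⟩
  refine R5.of_hasReal (p := 7) (by norm_num) (by norm_num) ?_
  by_cases h : 7 ∣ q
  · have := charP_of_dvd (F := K) (p := 7) (by norm_num) (by rw [hK]; exact h.trans (dvd_pow_self q (by norm_num)))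
    obtain ⟨φ, hφ⟩ := exists_frob hq (by norm_num) hK
    exact DefChar.TwD4 hφ
  · refine RowTriD4.row hq hK (by norm_num) h ?_
    rw [S1067.result hq hK]
    exact ((dvd_pow_sub_one (by norm_num) h (by norm_num)).mul_left _).mul_right _

theorem r5_TwE6 {K : Type u} [Field K] [Fintype K] {q : ℕ} (hq : IsPrimePow q) (hK : Fintype.card K = q ^ 2)
    [Finite ↥(twistedE6 K q)]
    (hs : IsSimpleGroup ↥(twistedE6 K q)) (hna : ¬ IsMulCommutative ↥(twistedE6 K q)) :
    R5 ↥(twistedE6 K q) := by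
  have : Fact (Nat.Prime 5) := ⟨by norm_num⟩
  by_cases h : 5 ∣ q
  · refine R5.of_hasReal (p := 5) (by norm_num) (by norm_num) ?_
    have := charP_of_dvd (F := K) (p := 5) (by norm_num) (by rw [hK]; exact h.trans (dvd_pow_self q (by norm_num)))
    obtain ⟨φ, hφ⟩ := exists_frob hq (by norm_num) hK
    exact DefChar.TwE6 hφ
  · have h1 : 5 ∣ Nat.card ↥(twistedE6 K q) := by
      have h2 : 5 ∣ Nat.gcd 3 (q + 1) * Nat.card ↥(twistedE6 K q) := by
        rw [S1066.result hq hK]
        exact (dvd_pow_sub_one (by norm_num) h (by norm_num)).mul_left _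
      refine (Nat.Coprime.dvd_mul_left ?_).1 h2
      exact Nat.Coprime.coprime_dvd_right (Nat.gcd_dvd_left _ _) (by norm_num)
    rcases RowsSix.TwE6 hq hK (by norm_num) (by norm_num) h h1 with h2 | ⟨x, hx⟩
    · exact R5.of_hasReal (p := 5) (by norm_num) (by norm_num) h2
    · exact R5.of_orderOf hs hna h1 hx

end Cfsg.Agent.H327.D5
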