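import Cfsg.Agent.H327.D5.PSL
import Cfsg.Agent.H153.SixOmega

/-!
# Real elements of the orthogonal groups of Witt index at least three
-/

set_option autoImplicit false

namespace Cfsg.Agent.H327.D5.Orth

open Matrix Cfsg Cfsg.Agent.H153.SixOmega
open scoped commutatorElement

def gM : Matrix (Fin 3 ⊕ Fin 3) (Fin 3 ⊕ Fin 3) ℤ :=
  fromBlocks !![0, 0, 1; 0, 0, 0; 0, 0, 0]
    !![0, 0, 0; 0, -1, 0; 1, 0, 0]
    !![0, 0, 0; 0, -1, -1; 1, 0, -1]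
    !![1, -1, 1; 1, 0, 0; 0, 1, 0]
def gI : Matrix (Fin 3 ⊕ Fin 3) (Fin 3 ⊕ Fin 3) ℤ :=
  fromBlocks !![1, 1, 0; -1, 0, 1; 1, 0, 0]
    !![0, 0, 1; 0, -1, 0; 0, 0, 0]
    !![0, 0, 1; 0, -1, 0; 0, -1, -1]
    !![0, 0, 0; 0, 0, 0; 1, 0, 0]
def gL : Matrix (Fin 3 ⊕ Fin 3) (Fin 3 ⊕ Fin 3) ℤ :=
  fromBlocks !![0, 0, 0; 0, 0, 0; 0, 0, 0]
    !![-1, 0, 0; 0, -1, 0; 1, -1, 0]
    !![0, 0, 0; 0, 0, 0; 0, 0, 0]
    !![0, 1, 0; 0, 0, 0; 0, 0, 0]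
def aM : Matrix (Fin 3 ⊕ Fin 3) (Fin 3 ⊕ Fin 3) ℤ :=
  fromBlocks !![1, 0, -1; 0, 0, 1; 0, -1, -1]
    !![0, 1, 0; 0, 0, 0; 1, 0, 0]
    !![0, 0, 0; 0, 0, 0; 0, 0, 0]
    !![1, 0, 0; 1, -1, 1; 0, -1, 0]
def aI : Matrix (Fin 3 ⊕ Fin 3) (Fin 3 ⊕ Fin 3) ℤ :=
  fromBlocks !![1, 1, 0; 0, -1, -1; 0, 1, 0]
    !![0, 0, 1; 1, 0, 0; 0, 0, 0]
    !![0, 0, 0; 0, 0, 0; 0, 0, 0]
    !![1, 0, 0; 0, 0, -1; -1, 1, -1]
def aL : Matrix (Fin 3 ⊕ Fin 3) (Fin 3 ⊕ Fin 3) ℤ :=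
  fromBlocks !![0, 0, 0; 0, 0, 0; 0, 0, 0]
    !![0, 0, 0; 0, 0, 0; 0, 0, 0]
    !![0, 0, 0; 0, 0, 0; 0, 0, 0]
    !![0, -1, 0; 0, 0, 0; 0, 0, 0]
def bM : Matrix (Fin 3 ⊕ Fin 3) (Fin 3 ⊕ Fin 3) ℤ :=
  fromBlocks !![0, 0, 1; -1, 0, 0; 0, -1, 0]
    !![0, 0, 0; 0, 0, 0; 0, 0, 0]
    !![0, 0, 0; 0, 0, 0; 0, 0, 0]
    !![0, 0, 1; -1, 0, 0; 0, -1, 0]
def bI : Matrix (Fin 3 ⊕ Fin 3) (Fin 3 ⊕ Fin 3) ℤ :=
  fromBlocks !![0, -1, 0; 0, 0, -1; 1, 0, 0]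
    !![0, 0, 0; 0, 0, 0; 0, 0, 0]
    !![0, 0, 0; 0, 0, 0; 0, 0, 0]
    !![0, -1, 0; 0, 0, -1; 1, 0, 0]
def bL : Matrix (Fin 3 ⊕ Fin 3) (Fin 3 ⊕ Fin 3) ℤ :=
  fromBlocks !![0, 0, 0; 0, 0, 0; 0, 0, 0]
    !![0, 0, 0; 0, 0, 0; 0, 0, 0]
    !![0, 0, 0; 0, 0, 0; 0, 0, 0]
    !![0, 0, 0; 0, 0, 0; 0, 0, 0]

/-- the Gram matrix -/
def K6 (R : Type*) [CommRing R] : Matrix (Fin 3 ⊕ Fin 3) (Fin 3 ⊕ Fin 3) R := fromBlocks 0 1 0 0

section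

variable (F : Type*) [Field F]

theorem quad_eq (v : Fin 3 ⊕ Fin 3 → F) : quadFormPlus 3 F v = v ⬝ᵥ (K6 F *ᵥ v) := by
  rw [quadFormPlus_eq, K6, fromBlocks_mulVec, dotProduct_block]
  simp

theorem quad_map {M L : Matrix (Fin 3 ⊕ Fin 3) (Fin 3 ⊕ Fin 3) ℤ} (h : Mᵀ * K6 ℤ * M = K6 ℤ + (L - Lᵀ))
    (v : Fin 3 ⊕ Fin 3 → F) :
    quadFormPlus 3 F ((Int.castRingHom F).mapMatrix M *ᵥ v) = quadFormPlus 3 F v := by
  have h1 := congrArg (Int.castRingHom F).mapMatrix h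
  have hK : (Int.castRingHom F).mapMatrix (K6 ℤ) = K6 F := by
    rw [K6, K6, RingHom.mapMatrix_apply, fromBlocks_map]
    simp
  have ht : ∀ N : Matrix (Fin 3 ⊕ Fin 3) (Fin 3 ⊕ Fin 3) ℤ, (Int.castRingHom F).mapMatrix Nᵀ =
      ((Int.castRingHom F).mapMatrix N)ᵀ := fun N => rfl
  rw [map_mul, map_mul, map_add, map_sub, hK, ht, ht] at h1
  rw [quad_eq, quad_eq]
  have h2 : ((Int.castRingHom F).mapMatrix M *ᵥ v) ⬝ᵥ (K6 F *ᵥ ((Int.castRingHom F).mapMatrix M *ᵥ v)) =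
      v ⬝ᵥ ((((Int.castRingHom F).mapMatrix M)ᵀ * K6 F * (Int.castRingHom F).mapMatrix M) *ᵥ v) := by
    rw [Matrix.mulVec_mulVec, Matrix.dotProduct_mulVec, ← Matrix.mulVec_transpose, Matrix.mulVec_mulVec,
      dotProduct_comm, Matrix.transpose_mul, Matrix.dotProduct_mulVec, ← Matrix.mulVec_transpose]
    rw [Matrix.transpose_mul, Matrix.transpose_mul, Matrix.transpose_transpose, Matrix.transpose_transpose,
      Matrix.mul_assoc, dotProduct_comm]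
  rw [h2, h1, Matrix.add_mulVec, Matrix.sub_mulVec, dotProduct_add, dotProduct_sub, Matrix.mulVec_transpose,
    dotProduct_comm v (v ᵥ* _), ← Matrix.dotProduct_mulVec, sub_self, add_zero]

end

/-- the isometries over `ℤ` as units -/
def uu (M N : Matrix (Fin 3 ⊕ Fin 3) (Fin 3 ⊕ Fin 3) ℤ) (h1 : M * N = 1) (h2 : N * M = 1) :
    (Matrix (Fin 3 ⊕ Fin 3) (Fin 3 ⊕ Fin 3) ℤ)ˣ := ⟨M, N, h1, h2⟩

theorem hg1 : gM * gI = 1 := by decide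
theorem hg2 : gI * gM = 1 := by decide
theorem ha1 : aM * aI = 1 := by decide
theorem ha2 : aI * aM = 1 := by decide
theorem hb1 : bM * bI = 1 := by decide
theorem hb2 : bI * bM = 1 := by decide
theorem hgL : gMᵀ * K6 ℤ * gM = K6 ℤ + (gL - gLᵀ) := by unfold K6; decide
theorem haL : aMᵀ * K6 ℤ * aM = K6 ℤ + (aL - aLᵀ) := by unfold K6; decide
theorem hbL : bMᵀ * K6 ℤ * bM = K6 ℤ + (bL - bLᵀ) := by unfold K6; decide

theorem g_pow : (uu gM gI hg1 hg2) ^ 5 = 1 := by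
  apply Units.ext
  change gM ^ 5 = 1
  decide

theorem g_t : uu gM gI hg1 hg2 * ⁅uu aM aI ha1 ha2, uu bM bI hb1 hb2⁆ * uu gM gI hg1 hg2 =
    ⁅uu aM aI ha1 ha2, uu bM bI hb1 hb2⁆ := by
  apply Units.ext
  change gM * (aM * bM * aI * bI) * gM = aM * bM * aI * bI
  decide

/-- to the isometry group over a field -/
def iso (F : Type*) [Field F] (u : (Matrix (Fin 3 ⊕ Fin 3) (Fin 3 ⊕ Fin 3) ℤ)ˣ)
    {L : Matrix (Fin 3 ⊕ Fin 3) (Fin 3 ⊕ Fin 3) ℤ}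
    (h : (u : Matrix (Fin 3 ⊕ Fin 3) (Fin 3 ⊕ Fin 3) ℤ)ᵀ * K6 ℤ * u = K6 ℤ + (L - Lᵀ)) : H6 F :=
  ⟨Units.map (Int.castRingHom F).mapMatrix.toMonoidHom u, by
    intro v _
    exact quad_map F h v⟩

theorem r5_comm (F : Type*) [Field F] [Finite F] : R5 (commutator (H6 F)) := by
  let g : H6 F := iso F (uu gM gI hg1 hg2) hgL
  let a : H6 F := iso F (uu aM aI ha1 ha2) haL
  let b : H6 F := iso F (uu bM bI hb1 hb2) hbL
  let φ := Units.map (Int.castRingHom F).mapMatrix.toMonoidHom (M := Matrix (Fin 3 ⊕ Fin 3) (Fin 3 ⊕ Fin 3) ℤ)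
  have h5 : g ^ 5 = 1 := by
    apply Subtype.ext
    change φ (uu gM gI hg1 hg2) ^ 5 = 1
    rw [← map_pow, g_pow, map_one]
  have ht : g * ⁅a, b⁆ * g = ⁅a, b⁆ := by
    apply Subtype.ext
    change φ (uu gM gI hg1 hg2) * ⁅φ (uu aM aI ha1 ha2), φ (uu bM bI hb1 hb2)⁆ * φ (uu gM gI hg1 hg2) =
      ⁅φ (uu aM aI ha1 ha2), φ (uu bM bI hb1 hb2)⁆
    rw [← map_commutatorElement, ← map_mul, ← map_mul, g_t]
  have hne : g ≠ 1 := by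
    intro h
    have h1 : ((g : GeneralLinearGroup (Fin 3 ⊕ Fin 3) F) : Matrix (Fin 3 ⊕ Fin 3) (Fin 3 ⊕ Fin 3) F) = 1 := by rw [h]; rfl
    have h2 := congrFun (congrFun h1 (Sum.inl 0)) (Sum.inl 0)
    change ((0 : ℤ) : F) = (1 : Matrix (Fin 3 ⊕ Fin 3) (Fin 3 ⊕ Fin 3) F) (Sum.inl 0) (Sum.inl 0) at h2
    rw [Matrix.one_apply_eq, Int.cast_zero] at h2
    exact zero_ne_one h2
  have htc : ⁅a, b⁆ ∈ commutator (H6 F) :=
    Subgroup.commutator_mem_commutator (Subgroup.mem_top _) (Subgroup.mem_top _)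
  have hgc : g ∈ commutator (H6 F) := by
    have h1 : ⁅⁅a, b⁆, g⁆ ∈ commutator (H6 F) :=
      Subgroup.commutator_mem_commutator (Subgroup.mem_top _) (Subgroup.mem_top _)
    have h2 : ⁅⁅a, b⁆, g⁆ = g⁻¹ * g⁻¹ := by
      rw [commutatorElement_def]
      have h3 : ⁅a, b⁆ * g = g⁻¹ * ⁅a, b⁆ := by rw [eq_inv_mul_iff_mul_eq, ← mul_assoc]; exact ht
      rw [h3]
      group
    rw [h2] at h1
    have h3 : g = (g⁻¹ * g⁻¹) ^ 2 := by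
      have : g = g ^ 5 * (g⁻¹ * g⁻¹) ^ 2 := by group
      rw [h5, one_mul] at this
      exact this
    rw [h3]
    exact pow_mem h1 2
  refine R5.of_real' (p := 5) (by norm_num) le_rfl (x := ⟨g, hgc⟩) (g := ⟨⁅a, b⁆, htc⟩) (Subtype.ext h5) ?_
    (Subtype.ext ht)
  intro h
  exact hne (congrArg Subtype.val h)

theorem r5_of_embedding {F : Type*} [Field F] [Finite F] {G : Type*} [Group G] (f : H6 F →* G)
    (hf : Function.Injective f) : R5 (commutator G ⧸ Subgroup.center (commutator G)) := by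
  have h1 : ∀ x : commutator (H6 F), f x ∈ commutator G := fun x => hom_mem_commutator f x.2
  let f' : commutator (H6 F) →* commutator G := (f.comp (commutator (H6 F)).subtype).codRestrict _ h1
  have h2 : R5 (commutator G) := (r5_comm F).of_injective f' (fun x y h => by
    have h3 : f x = f y := congrArg Subtype.val h
    exact Subtype.ext (hf h3))
  exact h2.quotient _ le_rfl

theorem r5_plus {F : Type*} [Field F] [Finite F] {m : ℕ} (hm : 3 ≤ m) : R5 (POmega F (quadFormPlus m F)) := by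
  refine r5_of_embedding (extIso (plusSplit hm) (quadFormPlus 3 F) (quadFormPlus m F)
    (quadFormPlus (m - 3) F) ?_) (extIso_injective _ _ _ _ _)
  intro v
  exact sum_finSplit hm (fun i => v (Sum.inl i) * v (Sum.inr i))

theorem r5_minus {F : Type*} [Field F] [Finite F] {m : ℕ} (hm : 3 ≤ m) (a b : F) :
    R5 (POmega F (quadFormMinus m F a b)) := by
  refine r5_of_embedding (extIso (minusSplit hm) (quadFormPlus 3 F) (quadFormMinus m F a b)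
    (quadFormMinus (m - 3) F a b) ?_) (extIso_injective _ _ _ _ _)
  intro v
  have h1 := sum_finSplit hm (fun i => v (Sum.inl (Sum.inl i)) * v (Sum.inl (Sum.inr i)))
  unfold quadFormMinus quadFormPlus
  rw [h1, add_assoc]
  rfl

/-- splitting off three hyperbolic planes -/
def oddSplit {m : ℕ} (hm : 3 ≤ m) :
    (Fin 3 ⊕ Fin 3) ⊕ (Unit ⊕ (Fin (m - 3) ⊕ Fin (m - 3))) ≃ Unit ⊕ (Fin m ⊕ Fin m) :=
  ((Equiv.sumAssoc _ _ _).symm.trans ((Equiv.sumCongr (Equiv.sumComm _ _) (Equiv.refl _)).trans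
    (Equiv.sumAssoc _ _ _))).trans (Equiv.sumCongr (Equiv.refl _) (plusSplit hm))

theorem r5_odd {F : Type*} [Field F] [Finite F] {m : ℕ} (hm : 3 ≤ m) : R5 (POmega F (quadFormOdd m F)) := by
  refine r5_of_embedding (extIso (oddSplit hm) (quadFormPlus 3 F) (quadFormOdd m F)
    (quadFormOdd (m - 3) F) ?_) (extIso_injective _ _ _ _ _)
  intro v
  have h1 := sum_finSplit hm (fun i => v (Sum.inr (Sum.inl i)) * v (Sum.inr (Sum.inr i)))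
  unfold quadFormOdd quadFormPlus
  rw [h1, ← add_assoc, add_comm (v (Sum.inl ()) ^ 2), add_assoc]
  rfl

end Cfsg.Agent.H327.D5.Orth
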