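import Cfsg.Agent.H327.D5.SL2
import Cfsg.Prelude.Def_Classification2

/-!
# Real elements of `PSL_n(F)`
-/

set_option autoImplicit false

namespace Cfsg.Agent.H327.D5

open Matrix

section

variable {F : Type*} [Field F]

/-- the index equivalence -/
def eqn {k n : ℕ} (h : k ≤ n) : Fin k ⊕ Fin (n - k) ≃ Fin n :=
  finSumFinEquiv.trans (finCongr (by omega))

/-- block embedding -/
def emb {k n : ℕ} (h : k ≤ n) : Matrix.SpecialLinearGroup (Fin k) F →* Matrix.SpecialLinearGroup (Fin n) F where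
  toFun g := ⟨(fromBlocks (g : Matrix (Fin k) (Fin k) F) 0 0
      (1 : Matrix (Fin (n - k)) (Fin (n - k)) F)).submatrix (eqn h).symm (eqn h).symm, by
    rw [det_submatrix_equiv_self, det_fromBlocks_zero₂₁, det_one, mul_one]
    exact g.det_coe⟩
  map_one' := by
    apply Subtype.ext
    change (fromBlocks (1 : Matrix (Fin k) (Fin k) F) 0 0 1).submatrix (eqn h).symm (eqn h).symm = 1
    rw [fromBlocks_one, submatrix_one_equiv]
  map_mul' g g' := by
    apply Subtype.ext
    change (fromBlocks ((g : Matrix (Fin k) (Fin k) F) * (g' : Matrix (Fin k) (Fin k) F)) 0 0 1).submatrix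
        (eqn h).symm (eqn h).symm =
      (fromBlocks (g : Matrix (Fin k) (Fin k) F) 0 0 1).submatrix (eqn h).symm (eqn h).symm *
        (fromBlocks (g' : Matrix (Fin k) (Fin k) F) 0 0 1).submatrix (eqn h).symm (eqn h).symm
    rw [submatrix_mul_equiv, fromBlocks_multiply]
    simp

theorem emb_apply {k n : ℕ} (h : k ≤ n) (g : Matrix.SpecialLinearGroup (Fin k) F) (i j : Fin k) :
    (emb h g : Matrix (Fin n) (Fin n) F) (eqn h (Sum.inl i)) (eqn h (Sum.inl j)) =
      (g : Matrix (Fin k) (Fin k) F) i j := by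
  change (fromBlocks (g : Matrix (Fin k) (Fin k) F) 0 0 1).submatrix (eqn h).symm (eqn h).symm _ _ = _
  rw [submatrix_apply, Equiv.symm_apply_apply, Equiv.symm_apply_apply, fromBlocks_apply₁₁]

theorem emb_injective {k n : ℕ} (h : k ≤ n) : Function.Injective (emb (F := F) h) := by
  intro g g' hg
  apply Subtype.ext
  ext i j
  have h1 := emb_apply h g i j
  rw [hg, emb_apply h g' i j] at h1
  exact h1.symm

/-- from `SL_k` to `PSL_n` -/
theorem r5_psl_of {k n : ℕ} (h : k ≤ n) (h5 : R5 (Matrix.SpecialLinearGroup (Fin k) F)) :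
    R5 (ProjectiveSpecialLinearGroup (Fin n) F) :=
  (h5.of_injective (emb h) (emb_injective h)).quotient _ le_rfl

/-- the element of order five -/
def c4 : Matrix.SpecialLinearGroup (Fin 4) ℤ :=
  ⟨!![0, 0, 0, -1; 1, 0, 0, -1; 0, 1, 0, -1; 0, 0, 1, -1], by decide⟩

/-- the inverting element -/
def t4 : Matrix.SpecialLinearGroup (Fin 4) ℤ :=
  ⟨!![1, -1, 0, 0; 0, -1, 0, 0; 0, -1, 0, 1; 0, -1, 1, 0], by decide⟩

theorem c4_pow : c4 ^ 5 = 1 := by
  apply Subtype.ext
  decide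

theorem c4_t4 : c4 * t4 * c4 = t4 := by
  apply Subtype.ext
  decide

theorem r5_sl4 [Finite F] : R5 (Matrix.SpecialLinearGroup (Fin 4) F) := by
  refine R5.of_real' (p := 5) (by norm_num) le_rfl (x := Matrix.SpecialLinearGroup.map (Int.castRingHom F) c4)
    (g := Matrix.SpecialLinearGroup.map (Int.castRingHom F) t4) ?_ ?_ ?_
  · rw [← map_pow, c4_pow, map_one]
  · intro h
    have h1 := congrArg (fun g : Matrix.SpecialLinearGroup (Fin 4) F => (g : Matrix (Fin 4) (Fin 4) F) 1 0) h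
    change ((1 : ℤ) : F) = (1 : Matrix (Fin 4) (Fin 4) F) 1 0 at h1
    rw [Matrix.one_apply_ne (by decide), Int.cast_one] at h1
    exact one_ne_zero h1
  · rw [← map_mul, ← map_mul, c4_t4]

theorem u_pow (n : ℕ) : (!![1, 1, 0; 0, 1, 0; 0, 0, 1] : Matrix (Fin 3) (Fin 3) F) ^ n =
    !![1, (n : F), 0; 0, 1, 0; 0, 0, 1] := by
  induction n with
  | zero =>
    rw [pow_zero, Nat.cast_zero]
    ext i j; fin_cases i <;> fin_cases j <;> rfl
  | succ n ih =>
    rw [pow_succ, ih]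
    ext i j; fin_cases i <;> fin_cases j <;> simp [Matrix.mul_apply, Fin.sum_univ_three] <;> ring

/-- unipotent elements of `SL₃(F)` -/
theorem r5_sl3_uni [Fintype F] (hp : (Fintype.card F).Prime) (h5 : 5 ≤ Fintype.card F) :
    R5 (Matrix.SpecialLinearGroup (Fin 3) F) := by
  let u : Matrix.SpecialLinearGroup (Fin 3) F := ⟨!![1, 1, 0; 0, 1, 0; 0, 0, 1], by
    simp [Matrix.det_fin_three]⟩
  let h : Matrix.SpecialLinearGroup (Fin 3) F := ⟨!![-1, 0, 0; 0, 1, 0; 0, 0, -1], by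
    simp [Matrix.det_fin_three]⟩
  refine R5.of_real' hp h5 (x := u) (g := h) ?_ ?_ ?_
  · apply Subtype.ext
    change (!![1, 1, 0; 0, 1, 0; 0, 0, 1] : Matrix (Fin 3) (Fin 3) F) ^ (Fintype.card F) = 1
    rw [u_pow, FiniteField.cast_card_eq_zero]
    ext i j; fin_cases i <;> fin_cases j <;> rfl
  · intro h1
    have h2 := congrArg (fun g : Matrix.SpecialLinearGroup (Fin 3) F => (g : Matrix (Fin 3) (Fin 3) F) 0 1) h1
    change (1 : F) = (1 : Matrix (Fin 3) (Fin 3) F) 0 1 at h2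
    rw [Matrix.one_apply_ne (by decide)] at h2
    exact one_ne_zero h2
  · apply Subtype.ext
    change !![(1 : F), 1, 0; 0, 1, 0; 0, 0, 1] * !![-1, 0, 0; 0, 1, 0; 0, 0, -1] * !![1, 1, 0; 0, 1, 0; 0, 0, 1] =
      !![-1, 0, 0; 0, 1, 0; 0, 0, -1]
    ext i j; fin_cases i <;> fin_cases j <;> simp [Matrix.mul_apply, Fin.sum_univ_three]

/-- **`PSL_n(q)`** -/
theorem r5_psl [Fintype F] {n : ℕ} (hn : 2 ≤ n) (h2 : n = 2 → 4 ≤ Fintype.card F ∧ Fintype.card F ≠ 7)
    (h3 : n = 3 → 4 ≤ Fintype.card F) : R5 (ProjectiveSpecialLinearGroup (Fin n) F) := by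
  rcases Nat.lt_or_ge n 4 with h | h
  · by_cases h7 : Fintype.card F = 7
    · have hn3 : n = 3 := by
        have : n ≠ 2 := fun h => (h2 h).2 h7
        omega
      exact r5_psl_of (k := 3) (by omega) (r5_sl3_uni (by rw [h7]; norm_num) (by omega))
    · refine r5_psl_of hn (r5_sl2 ?_ h7)
      have h4 : n = 2 ∨ n = 3 := by omega
      rcases h4 with h4 | h4
      · exact (h2 h4).1
      · exact h3 h4
  · exact r5_psl_of h r5_sl4

end

/-! ### The alternating groups -/

theorem exists_five : ∃ g t : Equiv.Perm (Fin 5), g ^ 5 = 1 ∧ g ≠ 1 ∧ g * t * g = t ∧ Equiv.Perm.sign g = 1 ∧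
    Equiv.Perm.sign t = 1 :=
  ⟨Equiv.swap 0 1 * Equiv.swap 1 2 * Equiv.swap 2 3 * Equiv.swap 3 4, Equiv.swap 1 4 * Equiv.swap 2 3, by decide,
    by decide, by decide, by decide, by decide⟩

theorem r5_alt {n : ℕ} (hn : 5 ≤ n) : R5 (alternatingGroup (Fin n)) := by
  let ι : Fin 5 ↪ Fin n := Fin.castLEEmb hn
  let f := Equiv.Perm.viaEmbeddingHom ι
  have hf : Function.Injective f := Equiv.Perm.viaEmbeddingHom_injective ι
  have hs : ∀ σ : Equiv.Perm (Fin 5), Equiv.Perm.sign (f σ) = Equiv.Perm.sign σ := by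
    intro σ
    let _inst : DecidablePred (fun b => b ∈ Set.range ι.1) := fun _ => Classical.propDecidable _
    exact Equiv.Perm.sign_extendDomain _ _
  obtain ⟨g, t, h1, h2, h3, h4, h5⟩ := exists_five
  have hg : f g ∈ alternatingGroup (Fin n) := by rw [Equiv.Perm.mem_alternatingGroup, hs, h4]
  have ht : f t ∈ alternatingGroup (Fin n) := by rw [Equiv.Perm.mem_alternatingGroup, hs, h5]
  refine R5.of_real' (p := 5) (by norm_num) le_rfl (x := ⟨f g, hg⟩) (g := ⟨f t, ht⟩) (Subtype.ext ?_) ?_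
    (Subtype.ext ?_)
  · change f g ^ 5 = 1
    rw [← map_pow, h1, map_one]
  · intro h
    have h' : f g = 1 := congrArg Subtype.val h
    exact h2 (hf (by rw [h', map_one]))
  · change f g * f t * f g = f t
    rw [← map_mul, ← map_mul, h3]

end Cfsg.Agent.H327.D5
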