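import Cfsg.Agent.H327.D5.Base

/-!
# Simple groups with a Sylow subgroup of Fermat prime order
-/

set_option autoImplicit false

namespace Cfsg.Agent.H327.D5

open Subgroup

/-- a simple group whose order is exactly divisible by a Fermat prime `p ≥ 5` -/
theorem r5_of_card {G : Type*} [Group G] [Finite G] (hs : IsSimpleGroup G) {p k : ℕ}
    (hp : p.Prime) (hpk : p = 2 ^ k + 1) (h5 : 5 ≤ p) (hne : Nat.card G ≠ p) (h1 : p ∣ Nat.card G)
    (h2 : ¬ p ^ 2 ∣ Nat.card G) : R5 G := by
  have : Fact p.Prime := ⟨hp⟩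
  obtain ⟨P⟩ : Nonempty (Sylow p G) := inferInstance
  have hP : Nat.card P = p := by
    obtain ⟨n, hn⟩ := P.isPGroup'.exists_card_eq
    have h3 : n ≠ 0 := by
      rintro rfl
      rw [pow_zero] at hn
      have h4 := P.dvd_card_of_dvd_card h1
      rw [hn] at h4
      exact hp.one_lt.ne' (Nat.dvd_one.1 h4)
    have h4 : n < 2 := by
      by_contra hc
      apply h2
      have h5 : p ^ 2 ∣ Nat.card P := by
        rw [hn]
        exact pow_dvd_pow p (by omega)
      exact h5.trans (Subgroup.card_subgroup_dvd_card _)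
    have h5 : n = 1 := by omega
    rw [hn, h5, pow_one]
  have hcyc : IsCyclic P := isCyclic_of_prime_card hP
  -- the normalizer does not centralize
  have hN : ¬ normalizer ((P : Subgroup G) : Set G) ≤ centralizer ((P : Subgroup G) : Set G) := by
    intro hle
    have hc := MonoidHom.ker_transferSylow_isComplement' P hle
    have hn : (MonoidHom.transferSylow P hle).ker.Normal := MonoidHom.normal_ker _
    rcases hs.eq_bot_or_eq_top_of_normal _ hn with h | h
    · apply hne
      have h3 := hc.card_mul_card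
      rw [h, card_bot, one_mul] at h3
      rw [← h3]; exact hP
    · have h3 := hc.card_mul_card
      rw [h, card_top] at h3
      have h4 : 0 < Nat.card G := Nat.card_pos
      have h5 : Nat.card G * p = Nat.card G * 1 := by rw [mul_one]; rw [← hP]; exact h3
      have h6 := Nat.eq_of_mul_eq_mul_left h4 h5
      omega
  obtain ⟨g, hg, hgc⟩ := Set.not_subset.1 hN
  -- the 2-part of `g`
  obtain ⟨a, m, hm, ham⟩ := Nat.exists_eq_two_pow_mul_odd (orderOf_pos g).ne'
  have ht : orderOf (g ^ m) = 2 ^ a := by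
    rw [orderOf_pow_of_dvd (by rintro rfl; simp at hm) (by rw [ham]; exact Dvd.intro_left _ rfl), ham]
    exact Nat.mul_div_cancel _ hm.pos
  let φ : normalizer ((P : Subgroup G) : Set G) →* MulAut (P : Subgroup G) := (P : Subgroup G).normalizerMonoidHom
  have hφ : ∀ (x : normalizer ((P : Subgroup G) : Set G)) (r : (P : Subgroup G)),
      ((φ x r : (P : Subgroup G)) : G) = x * r * (x : G)⁻¹ := fun x r => rfl
  have hcard : Nat.card (MulAut (P : Subgroup G)) = 2 ^ k := by
    rw [IsCyclic.card_mulAut]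
    have h3 : Nat.card (P : Subgroup G) = p := hP
    rw [h3, Nat.totient_prime hp, hpk, Nat.add_sub_cancel]
  refine ⟨p, hp, h5, H722.RealP.hasReal_of_act P.isPGroup' (t := g ^ m) ⟨a, ht⟩ ?_ ?_⟩
  · intro r hr
    exact (mem_normalizer_iff.1 (pow_mem hg m) r).1 hr
  · by_contra hcon
    push Not at hcon
    apply hgc
    have h3 : φ (⟨g, hg⟩ ^ m) = 1 := by
      apply MulEquiv.ext
      intro r
      apply Subtype.ext
      rw [hφ]
      exact hcon r r.2
    have h4 : φ ⟨g, hg⟩ ^ m = 1 := by rw [← map_pow]; exact h3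
    have h5 : φ ⟨g, hg⟩ ^ (2 ^ k) = 1 := by
      rw [← hcard]
      exact pow_card_eq_one'
    have h6 : φ ⟨g, hg⟩ = 1 := by
      have hcop : Nat.Coprime m (2 ^ k) := Nat.Coprime.pow_right k (Nat.coprime_two_right.2 hm)
      have h7 : orderOf (φ ⟨g, hg⟩) ∣ Nat.gcd m (2 ^ k) :=
        Nat.dvd_gcd (orderOf_dvd_of_pow_eq_one h4) (orderOf_dvd_of_pow_eq_one h5)
      rw [hcop] at h7
      exact orderOf_eq_one_iff.1 (Nat.dvd_one.1 h7)
    rw [SetLike.mem_coe, mem_centralizer_iff]
    intro r hr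
    have h7 := congrArg (fun f : MulAut (P : Subgroup G) => ((f ⟨r, hr⟩ : (P : Subgroup G)) : G)) h6
    simp only [hφ, MulAut.one_apply] at h7
    rw [mul_inv_eq_iff_eq_mul] at h7
    exact h7.symm

/-- the same with a given order -/
theorem r5_of_card_eq {G : Type*} [Group G] [Finite G] (hs : IsSimpleGroup G) {p k N : ℕ} (hN : Nat.card G = N)
    (hp : p.Prime) (hpk : p = 2 ^ k + 1) (h5 : 5 ≤ p) (hne : N ≠ p) (h1 : p ∣ N) (h2 : ¬ p ^ 2 ∣ N) : R5 G :=
  r5_of_card hs hp hpk h5 (hN ▸ hne) (hN ▸ h1) (hN ▸ h2)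

end Cfsg.Agent.H327.D5
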