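import Cfsg.Agent.H327.D5.PSp
import Cfsg.Agent.H327.D5.Sylow
import Cfsg.Agent.Phan.Ext
import Cfsg.Agent.S0281
import Cfsg.Agent.S0283
import Cfsg.Agent.SporadicStructure.U43Herm
import Cfsg.Agent.NotCT.Fam

/-!
# Real elements of `PSU_n(q)`
-/

set_option autoImplicit false

namespace Cfsg.Agent.H327.D5

open Matrix Cfsg

theorem r5_su_mono {F : Type} [Field F] [Fintype F] {q m n : ℕ} (hF : Fintype.card F = q ^ 2) (h : m ≤ n)
    (h5 : R5 (SU m F q)) : R5 (SU n F q) :=
  h5.of_injective (Phan.emb hF 0 (by omega)) (Phan.emb_injective hF 0 (by omega))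

theorem exists_field_card {q m : ℕ} (hm : m ≠ 0) (h : IsPrimePow (q ^ m)) : ∃ (K : Type) (_ : Field K) (_ : Fintype K),
    Fintype.card K = q := by
  have hq : IsPrimePow q := by
    obtain ⟨p, n, hp, hn, hq⟩ := (isPrimePow_nat_iff _).1 h
    have h1 : q ∣ p ^ n := by rw [hq]; exact dvd_pow_self q hm
    obtain ⟨k, -, hk⟩ := (Nat.dvd_prime_pow hp).1 h1
    have hk0 : k ≠ 0 := by
      rintro rfl
      rw [pow_zero] at hk
      rw [hk, one_pow] at hq
      have := (Nat.pow_eq_one.1 hq).resolve_right (by omega)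
      exact hp.one_lt.ne' this
    exact (isPrimePow_nat_iff _).2 ⟨p, k, hp, Nat.pos_of_ne_zero hk0, hk.symm⟩
  obtain ⟨p, n, hp, hn, hq⟩ := (isPrimePow_nat_iff _).1 hq
  have : Fact p.Prime := ⟨hp⟩
  have hfin : Fintype (GaloisField p n) := Fintype.ofFinite _
  refine ⟨GaloisField p n, inferInstance, hfin, ?_⟩
  rw [← Nat.card_eq_fintype_card, GaloisField.card p n (by omega), hq]

theorem r5_su_two {F : Type} [Field F] [Fintype F] {q : ℕ} (hF : Fintype.card F = q ^ 2) (h4 : 4 ≤ q) (h7 : q ≠ 7) :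
    R5 (SU 2 F q) := by
  obtain ⟨K, _, _, hK⟩ := exists_field_card two_ne_zero (hF ▸ FiniteField.isPrimePow_card F)
  obtain ⟨e⟩ := S0281.result (F := F) (K := K) hF hK
  exact (r5_sl2 (by omega) (by omega)).congr e.symm

theorem r5_su_four_small {F : Type} [Field F] [Fintype F] {q : ℕ} (hF : Fintype.card F = q ^ 2) (hq : q = 2 ∨ q = 3) :
    R5 (SU 4 F q) := by
  have hs : IsSimpleGroup (PSU 4 F q) := S0283.result hF 4 (by norm_num) (by omega)
  have h5 : R5 (PSU 4 F q) := by
    rcases hq with rfl | rfl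
    · have h1 : NotCT.HasOrd (.U 4) 2 (PSU 4 F 2) := NotCT.card_eq (p := 2) (k := 1) Nat.prime_two (t := .U 4)
        (by decide) ⟨F, _, _, hF, ⟨MulEquiv.refl _⟩⟩
      have h2 : Nat.card (PSU 4 F 2) = 25920 := by
        simp only [NotCT.HasOrd, NotCT.Typ.D, NotCT.Typ.N, NotCT.Typ.P, NotCT.pU] at h1
        norm_num at h1
        omega
      exact r5_of_card_eq hs h2 (p := 5) (k := 2) (by norm_num) (by norm_num) le_rfl (by norm_num) (by norm_num)
        (by norm_num)
    · have h1 : NotCT.HasOrd (.U 4) 3 (PSU 4 F 3) := NotCT.card_eq (p := 3) (k := 1) Nat.prime_three (t := .U 4)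
        (by decide) ⟨F, _, _, hF, ⟨MulEquiv.refl _⟩⟩
      have h2 : Nat.card (PSU 4 F 3) = 3265920 := by
        simp only [NotCT.HasOrd, NotCT.Typ.D, NotCT.Typ.N, NotCT.Typ.P, NotCT.pU] at h1
        norm_num at h1
        omega
      exact r5_of_card_eq hs h2 (p := 5) (k := 2) (by norm_num) (by norm_num) le_rfl (by norm_num) (by norm_num)
        (by norm_num)
  exact h5.of_quotient

/-! ### `SU₃(7)` -/

section Seven

variable {F : Type} [Field F]

/-- a unitary transvection -/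
def xm (a : F) : Matrix (Fin 3) (Fin 3) F := !![1 + a ^ 4, a ^ 11, 0; a ^ 5, 1 - a ^ 4, 0; 0, 0, 1]

/-- the inverting element -/
def um (a : F) : Matrix (Fin 3) (Fin 3) F := !![0, 1, 0; a ^ 2, 0, 0; 0, 0, a ^ 6]

theorem xm_pow {a : F} (ha : a ^ 8 = -1) (n : ℕ) :
    xm a ^ n = !![1 + n * a ^ 4, n * a ^ 11, 0; n * a ^ 5, 1 - n * a ^ 4, 0; 0, 0, 1] := by
  induction n with
  | zero =>
    ext i j; fin_cases i <;> fin_cases j <;> simp
  | succ n ih =>
    rw [pow_succ, ih, xm]
    ext i j; fin_cases i <;> fin_cases j <;> simp [Matrix.mul_apply, Fin.sum_univ_three]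
    · linear_combination (n : F) * (a ^ 8 + 1 - 1) * ha
    · linear_combination (0 : F) * ha
    · linear_combination (0 : F) * ha
    · linear_combination (n : F) * (a ^ 8) * ha

theorem xm_um {a : F} (ha : a ^ 8 = -1) : xm a * um a * xm a = um a := by
  rw [xm, um]
  ext i j; fin_cases i <;> fin_cases j <;> simp [Matrix.mul_apply, Fin.sum_univ_three]
  · linear_combination (a ^ 5 + a ^ 9) * ha
  · linear_combination (a ^ 16 - a ^ 8) * ha
  · ring
  · linear_combination (a ^ 5 - a ^ 9) * ha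

theorem xm_det (a : F) (ha : a ^ 8 = -1) : (xm a).det = 1 := by
  rw [xm, Matrix.det_fin_three]
  simp
  linear_combination (-a ^ 8) * ha

theorem um_det (a : F) (ha : a ^ 8 = -1) : (um a).det = 1 := by
  rw [um, Matrix.det_fin_three]
  simp
  linear_combination - ha

theorem r5_su3_seven {F : Type} [Field F] [Fintype F] (hF : Fintype.card F = 7 ^ 2) : R5 (SU 3 F 7) := by
  have hchar : ((7 : ℕ) : F) = 0 := by
    have h1 : ((Fintype.card F : ℕ) : F) = 0 := FiniteField.cast_card_eq_zero F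
    rw [hF] at h1
    rw [Nat.cast_pow] at h1
    exact pow_eq_zero_iff two_ne_zero |>.1 h1
  -- an element of order 16
  obtain ⟨a, ha⟩ : ∃ a : F, a ^ 8 = -1 := by
    classical
    have hu : Fintype.card Fˣ = 48 := by rw [Fintype.card_units, hF]; norm_num
    obtain ⟨g, hg⟩ := IsCyclic.exists_generator (α := Fˣ)
    have hog : orderOf g = 48 := by
      rw [orderOf_eq_card_of_forall_mem_zpowers hg, Nat.card_eq_fintype_card, hu]
    refine ⟨((g ^ 3 : Fˣ) : F), ?_⟩
    have h1 : ((g ^ 24 : Fˣ) : F) ^ 2 = 1 := by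
      rw [← Units.val_pow_eq_pow_val, ← pow_mul, show 24 * 2 = 48 by norm_num, ← hog, pow_orderOf_eq_one, Units.val_one]
    have h2 : ((g ^ 24 : Fˣ) : F) ≠ 1 := by
      intro h
      have h3 : g ^ 24 = 1 := Units.ext h
      have h4 := orderOf_dvd_of_pow_eq_one h3
      rw [hog] at h4
      omega
    rw [pow_two, mul_self_eq_one_iff] at h1
    have h3 := h1.resolve_left h2
    rw [← Units.val_pow_eq_pow_val, ← pow_mul]
    exact h3
  have ha0 : a ≠ 0 := by
    rintro rfl
    norm_num at ha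
  have pk : ∀ k : ℕ, a ^ (8 * k) = (-1) ^ k := fun k => by rw [pow_mul, ha]
  have p16 : a ^ 16 = 1 := by rw [show 16 = 8 * 2 by norm_num, pk]; norm_num
  have p40 : a ^ 40 = -1 := by rw [show 40 = 8 * 5 by norm_num, pk]; norm_num
  have p48 : a ^ 48 = 1 := by rw [show 48 = 8 * 6 by norm_num, pk]; norm_num
  have p88 : a ^ 88 = -1 := by rw [show 88 = 8 * 11 by norm_num, pk]; norm_num
  have p77 : a ^ 77 = - a ^ 5 := by rw [show 77 = 8 * 9 + 5 by norm_num, pow_add, pk]; ring
  have p35 : a ^ 35 = - a ^ 11 := by rw [show 35 = 8 * 3 + 11 by norm_num, pow_add, pk]; ring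
  have hfrob : ∀ x y : F, (x + y) ^ 7 = x ^ 7 + y ^ 7 := by
    intro x y
    have h7 : (7 : F) = 0 := hchar
    linear_combination (x ^ 6 * y + 3 * x ^ 5 * y ^ 2 + 5 * x ^ 4 * y ^ 3 + 5 * x ^ 3 * y ^ 4 + 3 * x ^ 2 * y ^ 5 + x * y ^ 6) * h7
  let x : Matrix.SpecialLinearGroup (Fin 3) F := ⟨xm a, xm_det a ha⟩
  let u : Matrix.SpecialLinearGroup (Fin 3) F := ⟨um a, um_det a ha⟩
  have hx : x ∈ SU 3 F 7 := by
    have h7 : (a ^ 4) ^ 7 = - a ^ 4 := by linear_combination (a ^ 20 - a ^ 12 + a ^ 4) * ha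
    have e1 : (1 + a ^ 4) ^ 7 = 1 - a ^ 4 := by rw [hfrob, one_pow, h7]; ring
    have e2 : (1 - a ^ 4) ^ 7 = 1 + a ^ 4 := by rw [sub_eq_add_neg, hfrob, one_pow, Odd.neg_pow (by decide), h7]; ring
    apply SporadicStructure.U43Herm.mem_SU_of_cols hF
    intro j k
    change ∑ i, xm a i j * (xm a i k) ^ 7 = _
    rw [Fin.sum_univ_three, xm]
    fin_cases j <;> fin_cases k <;> simp [e1, e2]
    · linear_combination - ha + p40
    · linear_combination (1 + a ^ 4) * p77
    · linear_combination (1 - a ^ 4) * p35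
    · linear_combination - ha + p88
  have hu : u ∈ SU 3 F 7 := by
    apply SporadicStructure.U43Herm.mem_SU_of_cols hF
    intro j k
    change ∑ i, um a i j * (um a i k) ^ 7 = _
    rw [Fin.sum_univ_three, um]
    fin_cases j <;> fin_cases k <;> simp
    · linear_combination p16
    · linear_combination p48
  refine R5.of_real' (p := 7) (by norm_num) (by norm_num) (x := ⟨x, hx⟩) (g := ⟨u, hu⟩) ?_ ?_ ?_
  · apply Subtype.ext
    apply Subtype.ext
    change xm a ^ 7 = 1
    rw [xm_pow ha, hchar]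
    ext i j; fin_cases i <;> fin_cases j <;> simp
  · intro h
    have h1 : xm a = 1 := congrArg (fun g : SU 3 F 7 => ((g : Matrix.SpecialLinearGroup (Fin 3) F) : Matrix (Fin 3) (Fin 3) F)) h
    have h2 := congrFun (congrFun h1 1) 0
    rw [xm, Matrix.one_apply_ne (by decide)] at h2
    exact pow_ne_zero 5 ha0 h2
  · apply Subtype.ext
    apply Subtype.ext
    exact xm_um ha

end Seven

/-- **`PSU_n(q)`** -/
theorem r5_psu {F : Type} [Field F] [Fintype F] {q n : ℕ} (hF : Fintype.card F = q ^ 2) (hn : 3 ≤ n)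
    (h2 : n = 3 → 4 ≤ q) : R5 (PSU n F q) := by
  have hq : 2 ≤ q := by
    have h1 := Fintype.one_lt_card (α := F)
    rw [hF] at h1
    by_contra hc
    have h3 : q ≤ 1 := by omega
    have h4 : q ^ 2 ≤ 1 ^ 2 := Nat.pow_le_pow_left h3 2
    omega
  have key : R5 (SU n F q) := by
    by_cases h7 : q = 7
    · subst h7
      exact r5_su_mono hF hn (r5_su3_seven hF)
    · rcases Nat.lt_or_ge q 4 with h4 | h4
      · have h3 : 4 ≤ n := by
          by_contra hc
          have := h2 (by omega)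
          omega
        exact r5_su_mono hF h3 (r5_su_four_small hF (by omega))
      · exact r5_su_mono hF (by omega) (r5_su_two hF h4 h7)
  exact key.quotient _ le_rfl

end Cfsg.Agent.H327.D5
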