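import Cfsg.Agent.H327.D5.PSL
import Cfsg.Agent.OddTab.GpThree
import Cfsg.Agent.S2678
import Cfsg.Agent.Sigma.Symp

/-!
# Real elements of `PSp_{2m}(F)`
-/

set_option autoImplicit false

namespace Cfsg.Agent.H327.D5

open Matrix

theorem exists_quadratic_ext (F : Type) [Field F] [Fintype F] : ∃ (K : Type) (_ : Field K) (_ : Fintype K),
    Fintype.card K = Fintype.card F ^ 2 := by
  obtain ⟨p, n, hp, hn, hq⟩ := (isPrimePow_nat_iff _).1 (FiniteField.isPrimePow_card F)
  have : Fact p.Prime := ⟨hp⟩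
  have h2 : 2 * n ≠ 0 := by omega
  have hfin : Fintype (GaloisField p (2 * n)) := Fintype.ofFinite _
  refine ⟨GaloisField p (2 * n), inferInstance, hfin, ?_⟩
  have h3 := GaloisField.card p (2 * n) h2
  rw [← Nat.card_eq_fintype_card, h3, ← hq, ← pow_mul, mul_comm]

theorem sq_ne_seven (q : ℕ) : q ^ 2 ≠ 7 := by
  intro h
  have h1 : q ≤ 2 := by
    by_contra hc
    have : 3 ^ 2 ≤ q ^ 2 := Nat.pow_le_pow_left (by omega) 2
    omega
  interval_cases q <;> omega

theorem r5_sl2_sq {K : Type*} [Field K] [Fintype K] {q : ℕ} (hq : 2 ≤ q) (hK : Fintype.card K = q ^ 2) :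
    R5 (Matrix.SpecialLinearGroup (Fin 2) K) := by
  refine r5_sl2 ?_ ?_
  · rw [hK]
    exact Nat.pow_le_pow_left hq 2
  · rw [hK]
    exact sq_ne_seven q

theorem spEmb_injective {F : Type} [Field F] (k l : ℕ) : Function.Injective (OddTab.BlockSp.emb k l F) := by
  intro A B h
  have h1 := OddTab.BlockSp.emb_coe (l := l) A
  rw [h, OddTab.BlockSp.emb_coe, fromBlocks_inj] at h1
  exact Subtype.ext h1.1.symm

/-- **`PSp_{2m}(q)`** -/
theorem r5_psp {F : Type} [Field F] [Fintype F] {m : ℕ} (hm : 2 ≤ m) : R5 (Cfsg.PSp m F) := by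
  obtain ⟨K, _, _, hK⟩ := exists_quadratic_ext F
  obtain ⟨φ, hφ⟩ := S2678.result (K := K) (F := F) hK rfl 1
  obtain ⟨l, rfl⟩ := Nat.exists_eq_add_of_le hm
  have h1 : R5 (Matrix.SpecialLinearGroup (Fin 2) K) := r5_sl2_sq Fintype.one_lt_card hK
  let c : Matrix.SpecialLinearGroup (Fin 2) K →* (Fin 1 → Matrix.SpecialLinearGroup (Fin 2) K) :=
    MonoidHom.pi (fun _ => MonoidHom.id _)
  have hc : Function.Injective c := fun a b h => congrFun h 0
  have h2 : R5 (symplecticGroup (Fin (2 + l)) F) := by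
    refine h1.of_injective ((OddTab.BlockSp.emb 2 l F).comp (φ.comp ((Sigma.Symp.emb 1 K).comp c))) ?_
    exact (spEmb_injective 2 l).comp (hφ.comp ((Sigma.Symp.emb_injective 1).comp hc))
  exact h2.quotient _ le_rfl

end Cfsg.Agent.H327.D5
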