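import Cfsg.Agent.H327.D5.Three
import Cfsg.Agent.H424.SmallIso
import Cfsg.Agent.S2366
import Cfsg.Agent.S1396

/-!
# The groups of order 168, `L₃(3)` and `U₃(3)`: 2-local subgroups
-/

set_option autoImplicit false
set_option linter.unusedSectionVars false

namespace Cfsg.Agent.H327.D5.Small

open Subgroup

universe u

/-- groups without nonabelian simple sections are solvable -/
theorem solvable_of {n : ℕ}
    (h : ∀ (S : Type u) [Group S] [Finite S], IsSimpleGroup S → ¬ IsMulCommutative S → Nat.card S ∣ n → False)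
    (k : ℕ) : ∀ (H : Type u) [Group H] [Finite H], Nat.card H = k → Nat.card H ∣ n → Group.IsSolvable H := by
  induction k using Nat.strong_induction_on with
  | _ k ih =>
    intro H _ _ hk hn
    by_cases hc : IsMulCommutative H
    · exact Group.isSolvable_of_comm fun a b => hc.is_comm.comm a b
    have hnt : Nontrivial H := by
      by_contra hnt
      rw [not_nontrivial_iff_subsingleton] at hnt
      exact hc ⟨⟨fun a b => Subsingleton.elim _ _⟩⟩
    by_cases hs : IsSimpleGroup H
    · exact (h H hs hc hn).elim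
    obtain ⟨N, hN, hN1, hN2⟩ : ∃ N : Subgroup H, N.Normal ∧ N ≠ ⊥ ∧ N ≠ ⊤ := by
      by_contra hno
      push Not at hno
      exact hs ⟨fun N hN => or_iff_not_imp_left.2 (hno N hN)⟩
    have hcard := Subgroup.card_eq_card_quotient_mul_card_subgroup N
    have h1 : Nat.card N < Nat.card H := by
      refine lt_of_le_of_ne (Subgroup.card_le_card_group N) ?_
      intro he
      exact hN2 (Subgroup.eq_top_of_card_eq N he)
    have h2 : Nat.card (H ⧸ N) < Nat.card H := by
      have h3 : 1 < Nat.card N := Subgroup.one_lt_card_iff_ne_bot N |>.2 hN1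
      have h4 : 0 < Nat.card (H ⧸ N) := Nat.card_pos
      rw [hcard]
      exact lt_mul_of_one_lt_right h4 h3
    have h3 : Nat.card N ∣ Nat.card H := Dvd.intro_left _ hcard.symm
    have h4 : Nat.card (H ⧸ N) ∣ Nat.card H := Dvd.intro _ hcard.symm
    rw [Group.isSolvable_iff_subgroup_quotient N]
    exact ⟨ih _ (hk ▸ h1) N rfl (h3.trans hn), ih _ (hk ▸ h2) (H ⧸ N) rfl (h4.trans hn)⟩

/-- divisors of small numbers are not orders of simple groups -/
theorem no_simple {n : ℕ} (hn0 : 0 < n) (hn : n < 4000) (hd : ∀ d ∈ [60, 168, 360, 504, 660, 1092, 2448, 2520, 3420], ¬ d ∣ n)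
    (S : Type u) [Group S] [Finite S] (hs : IsSimpleGroup S) (hna : ¬ IsMulCommutative S) (h : Nat.card S ∣ n) :
    False := by
  have hle := Nat.le_of_dvd hn0 h
  have h1 := H424.SmallIso.orders (G := S) hna (by omega)
  simp only [List.mem_cons, List.not_mem_nil, or_false, forall_eq_or_imp, forall_eq] at hd
  obtain ⟨d1, d2, d3, d4, d5, d6, d7, d8, d9⟩ := hd
  rcases h1 with h1 | h1 | h1 | h1 | h1 | h1 | h1 | h1 | h1 | h1 | h1
  · rw [h1] at h; exact d1 h
  · rw [h1] at h; exact d2 h
  · rw [h1] at h; exact d3 h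
  · rw [h1] at h; exact d4 h
  · rw [h1] at h; exact d5 h
  · rw [h1] at h; exact d6 h
  · rw [h1] at h; exact d7 h
  · rw [h1] at h; exact d8 h
  · rw [h1] at h; exact d9 h
  · omega
  · omega

variable {G : Type u} [Group G] [Finite G]

theorem solvable_of_normalizer {T : Subgroup G} (hT : IsPGroup 2 T)
    (hq : Group.IsSolvable (normalizer (T : Set G) ⧸ T.subgroupOf (normalizer (T : Set G)))) :
    Group.IsSolvable (normalizer (T : Set G)) := by
  have : Fact (Nat.Prime 2) := ⟨Nat.prime_two⟩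
  rw [Group.isSolvable_iff_subgroup_quotient (T.subgroupOf (normalizer (T : Set G)))]
  refine ⟨?_, hq⟩
  have h2 : IsPGroup 2 (T.subgroupOf (normalizer (T : Set G))) := hT.comap_of_injective _ (Subgroup.subtype_injective _)
  have := h2.isNilpotent
  infer_instance

theorem card_quot {T : Subgroup G} : Nat.card (normalizer (T : Set G) ⧸ T.subgroupOf (normalizer (T : Set G))) *
    Nat.card T = Nat.card (normalizer (T : Set G)) := by
  rw [Subgroup.card_eq_card_quotient_mul_card_subgroup (T.subgroupOf (normalizer (T : Set G)))]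
  congr 1
  exact (Nat.card_congr (Subgroup.subgroupOfEquivOfLe le_normalizer).toEquiv).symm

/-- 2-local subgroups, by order -/
theorem solvable_of_dvd {j m : ℕ} {T : Subgroup G} (hT : IsPGroup 2 T) (hj : 2 ^ j ∣ Nat.card T)
    (hG : Nat.card G = 2 ^ j * m)
    (h : ∀ (S : Type u) [Group S] [Finite S], IsSimpleGroup S → ¬ IsMulCommutative S → Nat.card S ∣ m → False) :
    Group.IsSolvable (normalizer (T : Set G)) := by
  refine solvable_of_normalizer hT (solvable_of h _ _ rfl ?_)
  have h1 := card_quot (T := T)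
  have h2 : Nat.card (normalizer (T : Set G)) ∣ 2 ^ j * m := hG ▸ Subgroup.card_subgroup_dvd_card _
  rw [← h1] at h2
  have h3 := (mul_dvd_mul_left (Nat.card (normalizer (T : Set G) ⧸ T.subgroupOf (normalizer (T : Set G)))) hj).trans h2
  rw [mul_comm] at h3
  exact Nat.dvd_of_mul_dvd_mul_left (by positivity) h3

theorem two_dvd {T : Subgroup G} (hT : IsPGroup 2 T) (hT1 : T ≠ ⊥) : 2 ^ 1 ∣ Nat.card T := by
  have : Fact (Nat.Prime 2) := ⟨Nat.prime_two⟩
  obtain ⟨n, hn⟩ := hT.exists_card_eq
  rw [hn]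
  refine pow_dvd_pow 2 (Nat.one_le_iff_ne_zero.2 ?_)
  rintro rfl
  rw [pow_zero] at hn
  exact hT1 (Subgroup.card_eq_one.1 hn)

/-- an element of order seven centralizes small normalized subgroups -/
theorem commute_of_small {T : Subgroup G} {x : G} (hx : x ∈ normalizer (T : Set G)) (hx7 : x ^ 7 = 1)
    (hT : Nat.card T ≤ 4) {t : G} (ht : t ∈ T) : x * t = t * x := by
  classical
  let φ : MulAut T := normalizerMonoidHom T ⟨x, hx⟩
  have hφ : ∀ y : T, ((φ y : T) : G) = x * y * x⁻¹ := fun y => rfl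
  have h7 : φ ^ 7 = 1 := by
    show normalizerMonoidHom T ⟨x, hx⟩ ^ 7 = 1
    rw [← map_pow]
    have : (⟨x, hx⟩ : normalizer (T : Set G)) ^ 7 = 1 := Subtype.ext hx7
    rw [this, map_one]
  have hperm : (MulAut.toPerm T φ) ^ (Nat.card T).factorial = 1 := by
    have := Fintype.ofFinite T
    have h1 : Nat.card (Equiv.Perm T) = (Nat.card T).factorial := by
      rw [Nat.card_eq_fintype_card, Fintype.card_perm, Nat.card_eq_fintype_card]
    rw [← h1]
    exact pow_card_eq_one'
  have h7' : (MulAut.toPerm T φ) ^ 7 = 1 := by rw [← map_pow, h7, map_one]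
  have hco : Nat.Coprime 7 (Nat.card T).factorial := by
    rw [Nat.Prime.coprime_iff_not_dvd (by norm_num), (by norm_num : Nat.Prime 7).dvd_factorial]
    omega
  have h1 : MulAut.toPerm T φ = 1 := by
    have := pow_gcd_eq_one.2 ⟨h7', hperm⟩
    rwa [hco.gcd_eq_one, pow_one] at this
  have h2 := hφ ⟨t, ht⟩
  have h3 : φ ⟨t, ht⟩ = ⟨t, ht⟩ := congrArg (fun σ : Equiv.Perm T => σ ⟨t, ht⟩) h1
  rw [h3] at h2
  exact (mul_inv_eq_iff_eq_mul.1 h2.symm)

/-- order 168 -/
theorem solvable_168 (hG : Nat.card G = 168) (H : Subgroup G) (hH : Cfsg.IsTwoLocal H) : Group.IsSolvable H := by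
  obtain ⟨T, hT, hT1, rfl⟩ := hH
  exact solvable_of_dvd hT (two_dvd hT hT1) (m := 84) (by rw [hG]; norm_num)
    (no_simple (by norm_num) (by norm_num) (by decide))

/-- order 5616 -/
theorem solvable_5616 (hG : Nat.card G = 5616) (H : Subgroup G) (hH : Cfsg.IsTwoLocal H) : Group.IsSolvable H := by
  obtain ⟨T, hT, hT1, rfl⟩ := hH
  exact solvable_of_dvd hT (two_dvd hT hT1) (m := 2808) (by rw [hG]; norm_num)
    (no_simple (by norm_num) (by norm_num) (by decide))

/-- order 6048, no elements of order 14 -/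
theorem solvable_6048 (hG : Nat.card G = 6048) (h14 : ∀ g : G, orderOf g ≠ 14) (H : Subgroup G)
    (hH : Cfsg.IsTwoLocal H) : Group.IsSolvable H := by
  have : Fact (Nat.Prime 2) := ⟨Nat.prime_two⟩
  have : Fact (Nat.Prime 7) := ⟨by norm_num⟩
  obtain ⟨T, hT, hT1, rfl⟩ := hH
  by_cases h8 : 2 ^ 3 ∣ Nat.card T
  · exact solvable_of_dvd hT h8 (m := 756) (by rw [hG]; norm_num)
      (no_simple (by norm_num) (by norm_num) (by decide))
  have h4 : Nat.card T ≤ 4 := by
    obtain ⟨n, hn⟩ := hT.exists_card_eq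
    have h2 : n ≤ 2 := by
      by_contra hc
      exact h8 (hn ▸ pow_dvd_pow 2 (by omega))
    rw [hn]
    calc 2 ^ n ≤ 2 ^ 2 := Nat.pow_le_pow_right (by norm_num) h2
      _ = 4 := by norm_num
  by_cases h7 : 7 ∣ Nat.card (normalizer (T : Set G))
  · exfalso
    obtain ⟨x, hx⟩ := exists_prime_orderOf_dvd_card' 7 h7
    have h2 : 2 ∣ Nat.card T := by
      have := two_dvd hT hT1
      rwa [pow_one] at this
    obtain ⟨t, ht⟩ := exists_prime_orderOf_dvd_card' 2 h2
    have hx7 : (x : G) ^ 7 = 1 := by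
      have := pow_orderOf_eq_one x
      rw [hx] at this
      exact congrArg Subtype.val this
    have hc : Commute (x : G) (t : G) := commute_of_small x.2 hx7 h4 t.2
    rw [← Subgroup.orderOf_coe] at hx ht
    have h := hc.orderOf_mul_eq_mul_orderOf_of_coprime (by rw [hx, ht]; norm_num)
    rw [hx, ht] at h
    exact h14 _ h
  · have h1 : Nat.card (normalizer (T : Set G)) ∣ 864 := by
      have h2 : Nat.card (normalizer (T : Set G)) ∣ 7 * 864 := by
        have := Subgroup.card_subgroup_dvd_card (normalizer (T : Set G))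
        rwa [hG] at this
      exact (Nat.Coprime.symm ((Nat.Prime.coprime_iff_not_dvd (by norm_num)).2 h7)).dvd_of_dvd_mul_left h2
    exact solvable_of (no_simple (n := 864) (by norm_num) (by norm_num) (by decide)) _ _ rfl h1

/-- the 3-rank of a group of order 168 -/
theorem pRankLE_168 (hG : Nat.card G = 168) : Cfsg.PRankLE 3 2 G := by
  intro A hA h3
  have : Fact (Nat.Prime 3) := ⟨Nat.prime_three⟩
  have hAp : IsPGroup 3 A := fun a => ⟨1, by rw [pow_one]; exact Subtype.ext (h3 a a.2)⟩
  obtain ⟨k, hk⟩ := hAp.exists_card_eq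
  have h1 : Nat.card A ∣ 3 * 56 := by
    have := Subgroup.card_subgroup_dvd_card A
    rwa [hG] at this
  rw [hk] at h1 ⊢
  have h2 : 3 ^ k ∣ 3 := (Nat.Coprime.pow_left k (by norm_num : Nat.Coprime 3 56)).dvd_of_dvd_mul_right h1
  exact (Nat.le_of_dvd (by norm_num) h2).trans (by norm_num)

/-- no elements of order 14 in `U₃(3)` -/
theorem orderOf_ne_14 {F : Type*} [Field F] [Fintype F] (hF : Fintype.card F = 3 ^ 2) (g : Cfsg.PSU 3 F 3) :
    orderOf g ≠ 14 := by
  have : Fact (Nat.Prime 3) := ⟨Nat.prime_three⟩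
  have hc : CharP F 3 := charP_of_card_eq_prime_pow hF
  intro hg
  have h := S2366.result (F := F) 3 (by norm_num) 3 hF
  have h1 : orderOf g ∈ Set.range (orderOf : Cfsg.PSU 3 F 3 → ℕ) := ⟨g, rfl⟩
  rw [h, hg] at h1
  simp only [Set.mem_union, Set.mem_setOf_eq] at h1
  revert h1
  decide

end Cfsg.Agent.H327.D5.Small
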