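import Cfsg.Agent.H327.D5.Cyc
import Cfsg.Agent.H661.SporTable
import Cfsg.Agent.NotCT.Orders

/-!
# Real elements of prime order at least five in the sporadic groups and the Tits group
-/

set_option autoImplicit false
set_option linter.unusedSectionVars false

namespace Cfsg.Agent.H327.D5

open Cfsg Cfsg.Agent.H722.RealP Cfsg.Agent.H661.Spor Cfsg.Agent.H661.Spor.McL

variable {S : Type*} [Group S] [Finite S]

theorem R5.mk5 (h : HasReal 5 S) : R5 S := ⟨5, by norm_num, le_rfl, h⟩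

theorem r5_of_p1 {n : ℕ} (hn : Nat.card S = n) (h9 : 3 ^ 2 ∣ n) (h : P1 S) : R5 S := by
  obtain ⟨r, hr, hr2, hrn, x, hx, hc⟩ := h
  refine ⟨r, hr, ?_, hasReal_of_isConj hx hc⟩
  have h3 : r ≠ 3 := by
    rintro rfl
    rw [hn] at hrn
    exact hrn h9
  have h4 : r ≠ 4 := by
    rintro rfl
    revert hr
    decide
  have := hr.two_le
  omega

theorem r5_mcl (h : Cfsg.Spor.IsoMcL S) : R5 S := by
  obtain ⟨e⟩ := h
  have : Finite Cfsg.Spor.McL := Finite.of_equiv _ e.toEquiv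
  refine R5.congr e.symm ?_
  refine R5.of_real' (p := 5) (by norm_num) le_rfl (x := mx) (g := mi) mx_pow mx_ne ?_
  have h1 := mi_mx
  have h2 := mi_sq
  have h3 : mx * mi * mx = mi⁻¹ * (mi * mx * (mi * mx)) := by group
  rw [h3, h1, mul_one]
  exact inv_eq_of_mul_eq_one_left h2

theorem r5_tits (h : Cfsg.Lie.IsoTits S) : R5 S := ⟨13, by norm_num, by norm_num, hasReal_tits h⟩

theorem r5_sporadic [IsSimpleGroup S] (h : IsSporadicGroup S) : R5 S := by
  rcases h with h | h | h | h | h | h | h | h | h | h | h | h | h | h | h | h | h | h | h | h | h | h | h | h | h | h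
  · exact r5_of_p1 (NotCT.Orders.m11 h) (by norm_num) (H661.Spor.m11 h)
  · exact r5_of_p1 (NotCT.Orders.m12 h) (by norm_num) (H661.Spor.m12 h)
  · exact r5_of_p1 (NotCT.Orders.m22 h) (by norm_num) (H661.Spor.m22 h)
  · exact r5_of_p1 (NotCT.Orders.m23 h) (by norm_num) (H661.Spor.m23 h)
  · exact r5_of_p1 (NotCT.Orders.m24 h) (by norm_num) (H661.Spor.m24 h)
  · refine R5.mk5 (hasReal_fermat (r := 5) (k := 2) (by norm_num) (by norm_num) ?_ ?_ ?_)
    all_goals rw [NotCT.Orders.j1 h]; norm_num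
  · exact r5_of_p1 (NotCT.Orders.j2 h) (by norm_num) (H661.Spor.j2 h)
  · exact r5_of_p1 (NotCT.Orders.j3 h) (by norm_num) (H661.Spor.j3 h)
  · exact r5_of_p1 (NotCT.Orders.j4 h) (by norm_num) (H661.Spor.j4 h)
  · exact r5_of_p1 (NotCT.Orders.co1 h) (by norm_num) (H661.Spor.co1 h)
  · exact r5_of_p1 (NotCT.Orders.co2 h) (by norm_num) (H661.Spor.co2 h)
  · exact r5_of_p1 (NotCT.Orders.co3 h) (by norm_num) (H661.Spor.co3 h)
  · exact r5_mcl h
  · exact r5_of_p1 (NotCT.Orders.hs h) (by norm_num) (H661.Spor.hs h)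
  · exact r5_of_p1 (NotCT.Orders.suz h) (by norm_num) (H661.Spor.suz h)
  · exact r5_of_p1 (NotCT.Orders.he h) (by norm_num) (H661.Spor.he h)
  · exact r5_of_p1 (NotCT.Orders.ru h) (by norm_num) (H661.Spor.ru h)
  · exact r5_of_p1 (NotCT.Orders.on h) (by norm_num) (H661.Spor.on h)
  · exact r5_of_p1 (NotCT.Orders.ly h) (by norm_num) (H661.Spor.ly h)
  · exact r5_of_p1 (NotCT.Orders.fi22 h) (by norm_num) (H661.Spor.fi22 h)
  · exact r5_of_p1 (NotCT.Orders.fi23 h) (by norm_num) (H661.Spor.fi23 h)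
  · exact r5_of_p1 (NotCT.Orders.fi24 h) (by norm_num) (H661.Spor.fi24 h)
  · exact r5_of_p1 (NotCT.Orders.hn h) (by norm_num) (H661.Spor.hn h)
  · exact r5_of_p1 (NotCT.Orders.th h) (by norm_num) (H661.Spor.th h)
  · exact r5_of_p1 (NotCT.Orders.b h) (by norm_num) (H661.Spor.b h)
  · exact r5_of_p1 (NotCT.Orders.m h) (by norm_num) (H661.Spor.m h)

end Cfsg.Agent.H327.D5
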