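import Cfsg.Agent.H327.D5.Cyc
import Cfsg.Agent.H318.SixTwF
import Cfsg.Agent.OddRank.SzTits
import Cfsg.Agent.LieRecognition.ReeFinal
import Cfsg.Agent.LieRecognition.ReeSplit

/-!
# Real elements of prime order at least five in the groups `Sz(q)`, `²G₂(q)`, `²F₄(q)`
-/

set_option autoImplicit false
set_option linter.unusedSectionVars false

namespace Cfsg.Agent.H327.D5

open Cfsg Cfsg.Lie Cfsg.Agent.KFacts.TwF4

/-! ### `²F₄(q)` -/

namespace TwF

theorem word {G : Type*} [Group G] {x n : G} (hx : x ^ 4 = 1) (hn : n * n = 1)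
    (h : n * x ^ 2 * n * x⁻¹ * (n * x * n) = n) : (x ^ 2 * n) ^ 5 = 1 := by
  have hn' : n⁻¹ = n := inv_eq_of_mul_eq_one_left hn
  have ha : x ^ 2 * x ^ 2 = 1 := by rw [← pow_add]; exact hx
  have ha' : (x ^ 2)⁻¹ = x ^ 2 := inv_eq_of_mul_eq_one_left ha
  have h0 : x ^ 2 * n * (x⁻¹ * n * x) = n := by
    have h3 : n * (n * x ^ 2 * n * x⁻¹ * (n * x * n)) * n = n * n * n := by rw [h]
    calc x ^ 2 * n * (x⁻¹ * n * x) = 1 * x ^ 2 * n * (x⁻¹ * n * x) * 1 := by group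
      _ = (n * n) * x ^ 2 * n * (x⁻¹ * n * x) * (n * n) := by rw [hn]
      _ = n * (n * x ^ 2 * n * x⁻¹ * (n * x * n)) * n := by group
      _ = n * n * n := h3
      _ = n := by rw [hn, one_mul]
  -- `x⁻¹ n x = n x² n`
  have h1 : x⁻¹ * n * x = n * x ^ 2 * n := by
    calc x⁻¹ * n * x = n⁻¹ * (x ^ 2)⁻¹ * (x ^ 2 * n * (x⁻¹ * n * x)) := by group
      _ = n * x ^ 2 * n := by rw [h0, hn', ha']
  have h2 : x ^ 2 * n * x ^ 2 = n * x ^ 2 * n * x ^ 2 * n * x ^ 2 * n := by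
    calc x ^ 2 * n * x ^ 2 = (x ^ 2)⁻¹ * n * x ^ 2 := by rw [ha']
      _ = x⁻¹ * (x⁻¹ * n * x) * x := by simp only [pow_two, mul_inv_rev, mul_assoc]
      _ = x⁻¹ * (n * x ^ 2 * n) * x := by rw [h1]
      _ = (x⁻¹ * n * x) * x ^ 2 * (x⁻¹ * n * x) := by group
      _ = (n * x ^ 2 * n) * x ^ 2 * (n * x ^ 2 * n) := by rw [h1]
      _ = _ := by group
  generalize x ^ 2 = a at *
  calc (a * n) ^ 5 = (a * n * a) * (n * a * n * a * n * a * n) := by
        simp only [pow_succ, pow_zero, one_mul, mul_assoc]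
    _ = (a * n * a) * (a * n * a) := by rw [← h2]
    _ = a * n * (a * a) * n * a := by group
    _ = a * (n * n) * a := by rw [ha]; group
    _ = 1 := by rw [hn, mul_one, ha]

variable {F : Type*} [Field F] {σ : F →+* F} {G : Type*} [Group G] (S : Full σ G)

include S in
theorem r5 [Finite G] : R5 G := by
  have hn2 := S.n2_sq
  have hn' : S.n2⁻¹ = S.n2 := inv_eq_of_mul_eq_one_left hn2
  have two : (1 : F) + 1 = 0 := by rw [← S.two]; norm_num
  have hx2 : S.e 0 1 0 ^ 2 = S.e 0 0 1 := by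
    rw [pow_two, S.e_mul, two, map_one]
    congr 1
    ring
  have hx3 : S.e 0 1 0 ^ 3 = S.e 0 1 1 := by
    rw [pow_succ, hx2, S.e_mul]
    congr 1 <;> ring
  have hx4 : S.e 0 1 0 ^ 4 = 1 := by
    rw [show (4 : ℕ) = 2 + 2 from rfl, pow_add, hx2, S.e_mul, add_zero, zero_mul, add_zero, two]
    exact H318.TwF.e_zero S 0
  have hxi : (S.e 0 1 0)⁻¹ = S.e 0 1 1 := by
    rw [← hx3]
    exact inv_eq_of_mul_eq_one_left (by rw [← pow_succ]; exact hx4)
  have e4 : (4 : ZMod 8) - 0 = 4 := by decide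
  have hy : S.n2 * S.e 0 1 0 * S.n2 = S.e 4 1 0 := by
    have := S.n2_e 0 1 0
    rw [hn', e4] at this
    exact this
  have hz : S.n2 * S.e 0 0 1 * S.n2 = S.e 4 0 1 := by
    have := S.n2_e 0 0 1
    rw [hn', e4] at this
    exact this
  have hw := word hx4 hn2 (by
    rw [hx2, hxi, hy, hz]
    exact S.n2_word.symm)
  refine R5.of_real' (p := 5) (by norm_num) le_rfl (x := S.e 0 1 0 ^ 2 * S.n2) (g := S.n2) hw ?_ ?_
  · rw [hx2]
    intro h
    -- `n₂ = e₀(0,1)`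
    have h0 : S.e 0 0 1 = S.n2 := by
      have := eq_inv_of_mul_eq_one_left h
      rw [this, hn']
    -- conjugating `o₀(1)`
    have h1 := S.n2_o 0 1
    have e3 : (3 : ZMod 8) - 0 = 3 := by decide
    rw [e3, ← h0, S.e_o0 0 0 1 1, mul_assoc, mul_inv_cancel, mul_one] at h1
    have h2 := S.o_o3 0 1 1
    have e3' : (0 : ZMod 8) + 3 = 3 := by decide
    have e1 : (0 : ZMod 8) + 1 = 1 := by decide
    have e2 : (0 : ZMod 8) + 2 = 2 := by decide
    rw [e3', e1, e2, ← h1] at h2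
    have h3 := H318.TwF.o_sq S 0
    have h4 := H318.TwF.o_ne_succ S 1
    have e12 : (1 : ZMod 8) + 1 = 2 := by decide
    rw [e12] at h4
    have h5 := H318.TwF.o_sq S 1
    apply h4
    simp only [map_one, mul_one] at h2
    have h6 : S.o 1 1 * S.o 2 1 = 1 := by
      rw [mul_assoc (S.o 0 1 * S.o 0 1)] at h2
      exact (mul_eq_left (a := S.o 0 1 * S.o 0 1)).1 h2.symm
    exact (mul_left_cancel (h5.trans h6.symm)).symm
  · rw [hx2]
    have h3 : S.e 0 0 1 * S.e 0 0 1 = 1 := by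
      rw [← hx2, ← pow_add]
      exact hx4
    calc S.e 0 0 1 * S.n2 * S.n2 * (S.e 0 0 1 * S.n2) = S.e 0 0 1 * (S.n2 * S.n2) * S.e 0 0 1 * S.n2 := by group
      _ = S.e 0 0 1 * S.e 0 0 1 * S.n2 := by rw [hn2, mul_one]
      _ = S.n2 := by rw [h3, one_mul]

end TwF

open Cfsg.Agent.ChevalleyStructure.TwF4.TwistedFix in
/-- `²F₄(q)` -/
theorem r5_twF4 {G : Type*} [Group G] [Finite G] (h : Iso2F4 G) : R5 G := by
  obtain ⟨K, _, _, m, -, hK, ⟨e⟩⟩ := h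
  have := H318.charTwo_of_card hK
  have : Finite ↥(twistedF4 K (2 ^ m)) := Finite.of_equiv _ e.toEquiv
  obtain ⟨φ, hφ⟩ := exists_rln hK
  exact (TwF.r5 (Inst.full hK hφ)).congr e.symm

/-! ### `²G₂(q)` -/

/-- a prime `≥ 5` -/
theorem exists_prime_ge_five {n : ℕ} (h1 : 2 < n) (h2 : n % 4 = 2) (h3 : n % 3 ≠ 0) : ∃ p, p.Prime ∧ 5 ≤ p ∧ p ∣ n := by
  obtain ⟨m, rfl⟩ : ∃ m, n = 2 * m := ⟨n / 2, by omega⟩
  have hm : m ≠ 1 := by omega
  obtain ⟨p, hp, hpm⟩ := Nat.exists_prime_and_dvd hm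
  refine ⟨p, hp, ?_, hpm.mul_left 2⟩
  have hp2 : p ≠ 2 := by rintro rfl; omega
  have hp3 : p ≠ 3 := by rintro rfl; omega
  have hp4 : p ≠ 4 := by rintro rfl; revert hp; decide
  have := hp.two_le
  omega

theorem three_pow_odd_mod (m : ℕ) : 3 ^ (2 * m + 1) % 4 = 3 := by
  rw [pow_succ, pow_mul, Nat.mul_mod, Nat.pow_mod]
  norm_num

open Cfsg.Agent.LieRecognition in
/-- `²G₂(q)` -/
theorem r5_ree {G : Type*} [Group G] [Finite G] (h : IsoRee G) : R5 G := by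
  obtain ⟨K, _, _, m, hm, hK, ⟨e⟩⟩ := h
  have : Finite ↥(twistedG2 K (3 ^ m)) := Finite.of_equiv _ e.toEquiv
  refine R5.congr e.symm ?_
  have D := ReeFinal.data hK
  have h1 := three_pow_odd_mod m
  have h27 : 27 ≤ 3 ^ (2 * m + 1) := by
    calc 27 = 3 ^ 3 := by norm_num
      _ ≤ _ := Nat.pow_le_pow_right (by norm_num) (by omega)
  have h3 : 3 ^ (2 * m + 1) % 3 = 0 := by rw [pow_succ, Nat.mul_mod_left]
  obtain ⟨p, hp, h5, hpd⟩ := exists_prime_ge_five (n := 3 ^ (2 * m + 1) - 1) (by omega) (by omega) (by omega)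
  have : Fact p.Prime := ⟨hp⟩
  have hpK : p ∣ Nat.card Kˣ := by
    rw [Nat.card_units, Nat.card_eq_fintype_card, hK]
    exact hpd
  obtain ⟨a, ha⟩ := exists_prime_orderOf_dvd_card' p hpK
  have hh : ∀ k : ℕ, ReeData.h hK a ^ k = ReeData.h hK (a ^ k) := fun k => (ReeSplit.h_pow D a k).symm
  have hone : ReeData.h hK (1 : Kˣ) = 1 := by
    have := D.h_mul 1 1
    rw [mul_one] at this
    exact (mul_eq_left.1 this.symm)
  refine R5.of_real' hp h5 (x := ReeData.h hK a) (g := ReeData.n hK) ?_ ?_ ?_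
  · rw [hh, ← ha, pow_orderOf_eq_one, hone]
  · intro h
    have h6 : a = 1 := (ReeSplit.h_eq_iff D).1 (h.trans hone.symm)
    rw [h6, orderOf_one] at ha
    omega
  · rw [mul_assoc, D.n_h, ← mul_assoc, ← D.h_mul, mul_inv_cancel, hone, one_mul]

/-! ### `Sz(q)` -/

/-- `Sz(q)` -/
theorem r5_suzuki {G : Type*} [Group G] [Finite G] (hs : IsSimpleGroup G) (hna : ¬ IsMulCommutative G)
    (h : IsoSuzuki G) : R5 G := by
  have h' := h
  obtain ⟨F, _, _, m, hm, hF, ⟨e⟩⟩ := h'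
  have hcard : Nat.card G = (2 ^ (2 * m + 1)) ^ 2 * (2 ^ (2 * m + 1) - 1) * ((2 ^ (2 * m + 1)) ^ 2 + 1) := by
    rw [Nat.card_congr e.toEquiv]
    exact (Cfsg.Agent.S1163.result hm hF).1
  have : Fact (Nat.Prime 5) := ⟨by norm_num⟩
  refine R5.of_cyclic hs hna ?_ (fun P => OddRank.SzTits.isCyclic_of_isPGroup h (p := 5) (by norm_num) P P.isPGroup')
  rw [hcard]
  refine Dvd.dvd.mul_left ?_ _
  have h1 : ((2 ^ (2 * m + 1)) ^ 2 + 1) % 5 = 0 := by
    have : (2 ^ (2 * m + 1)) ^ 2 = 16 ^ m * 4 := by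
      rw [← pow_mul, show (2 * m + 1) * 2 = 4 * m + 2 from by ring, pow_add, pow_mul]
      norm_num
    rw [this, Nat.add_mod, Nat.mul_mod, Nat.pow_mod]
    norm_num
  exact Nat.dvd_of_mod_eq_zero h1

end Cfsg.Agent.H327.D5
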