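import Cfsg.Agent.H327.D5.Small
import Cfsg.Agent.H327.D5.Spor
import Cfsg.Agent.H327.D5.Exc
import Cfsg.Agent.H327.D5.Tw
import Cfsg.Agent.H327.D5.Orth
import Cfsg.Agent.H327.D5.PSU
import Cfsg.Agent.H327.D5.PSp
import Cfsg.Agent.H327.D5.PSL
import Cfsg.Agent.S0255
import Cfsg.Prelude.Def_Classification2

/-!
# Known simple groups without dihedral sections of order `2p`, `p > 3`
-/

set_option autoImplicit false
set_option linter.unusedSectionVars false

namespace Cfsg.Agent.H327.D5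

open Cfsg Cfsg.Lie

/-- the exceptions -/
def Exceptional (G : Type*) [Group G] : Prop :=
  Nat.card G = 168 ∨
    (∃ (F : Type) (_ : Field F) (_ : Fintype F), Fintype.card F = 3 ∧
      Nonempty (G ≃* Matrix.ProjectiveSpecialLinearGroup (Fin 3) F)) ∨
    (∃ (F : Type) (_ : Field F) (_ : Fintype F), Fintype.card F = 3 ^ 2 ∧ Nonempty (G ≃* PSU 3 F 3))

variable {G : Type*} [Group G] [Finite G]

/-- **Real elements of prime order at least five in the known simple groups** -/
theorem r5_or (hs : IsSimpleGroup G) (hG : ¬ IsMulCommutative G) (hk : IsKnownSimple' G) : R5 G ∨ Exceptional G := by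
  rcases hk with h | h | h | h | h | h | h | h | h | h
  · exfalso
    have h' : (Nat.card G).Prime := h
    have : Fact (Nat.card G).Prime := ⟨h'⟩
    have hc : IsCyclic G := isCyclic_of_prime_card (p := Nat.card G) rfl
    exact hG ⟨⟨fun a b => hc.commGroup.mul_comm a b⟩⟩
  · obtain ⟨n, hn, ⟨e⟩⟩ := h
    exact Or.inl ((r5_alt hn).congr e.symm)
  · obtain ⟨F, _, _, n, hn, h2, ⟨e⟩⟩ := h
    by_cases h7 : n = 2 ∧ Fintype.card F = 7
    · obtain ⟨rfl, h7⟩ := h7
      right; left
      rw [Nat.card_congr e.toEquiv]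
      exact SmallSimple.PSLFacts.card_psl_two_seven h7
    by_cases h3 : n = 3 ∧ Fintype.card F < 4
    · obtain ⟨rfl, h3⟩ := h3
      have h1 := Fintype.one_lt_card (α := F)
      obtain h3 | h3 : Fintype.card F = 2 ∨ Fintype.card F = 3 := by omega
      · right; left
        have : Fact (Nat.Prime 7) := ⟨by norm_num⟩
        obtain ⟨f⟩ := S0255.result (F := ZMod 7) (ZMod.card 7) h3
        rw [Nat.card_congr (e.trans f.symm).toEquiv]
        exact SmallSimple.PSLFacts.card_psl_two_seven (ZMod.card 7)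
      · right; right; left
        exact ⟨F, inferInstance, inferInstance, h3, ⟨e⟩⟩
    · left
      refine (r5_psl hn (fun h => ⟨h2 h, fun h' => h7 ⟨h, h'⟩⟩) fun h => ?_).congr e.symm
      by_contra hc
      exact h3 ⟨h, by omega⟩
  · obtain ⟨F, _, _, m, hm, -, ⟨e⟩⟩ := h
    exact Or.inl ((r5_psp hm).congr e.symm)
  · obtain ⟨F, _, _, n, q, hF, hn, h32, ⟨e⟩⟩ := h
    by_cases h3 : n = 3 ∧ q = 3
    · obtain ⟨rfl, rfl⟩ := h3
      right; right; right
      exact ⟨F, inferInstance, inferInstance, hF, ⟨e⟩⟩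
    · left
      refine (r5_psu hF hn fun h => ?_).congr e.symm
      have h1 := Fintype.one_lt_card (α := F)
      rw [hF] at h1
      have h4 : q ≠ 0 := by rintro rfl; norm_num at h1
      have h5 : q ≠ 1 := by rintro rfl; norm_num at h1
      have h6 : q ≠ 2 := fun h' => h32 ⟨h, h'⟩
      have h7 : q ≠ 3 := fun h' => h3 ⟨h, h'⟩
      omega
  · obtain ⟨F, _, _, m, hm, -, ⟨e⟩⟩ := h
    exact Or.inl ((Orth.r5_odd hm).congr e.symm)
  · obtain ⟨F, _, _, m, hm, ⟨e⟩⟩ := h
    exact Or.inl ((Orth.r5_plus (by omega)).congr e.symm)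
  · obtain ⟨F, _, _, m, a, b, hm, -, ⟨e⟩⟩ := h
    exact Or.inl ((Orth.r5_minus (by omega) a b).congr e.symm)
  · left
    rcases h with h | h | h | h | h | h | h | h | h | h | h
    · obtain ⟨F, _, _, -, ⟨e⟩⟩ := h
      exact r5_G2.congr e.symm
    · obtain ⟨F, _, _, ⟨e⟩⟩ := h
      exact r5_F4.congr e.symm
    · obtain ⟨F, _, _, ⟨e⟩⟩ := h
      exact r5_E6.congr e.symm
    · obtain ⟨F, _, _, ⟨e⟩⟩ := h
      have : Finite ↥(chevE7.group F) := Finite.of_equiv _ e.toEquiv
      exact r5_E7.congr e.symm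
    · obtain ⟨F, _, _, ⟨e⟩⟩ := h
      exact r5_E8.congr e.symm
    · obtain ⟨K, _, _, q, hq, hK, ⟨e⟩⟩ := h
      have : Finite ↥(twistedE6 K q) := Finite.of_equiv _ e.toEquiv
      refine (r5_TwE6 hq hK (e.symm.isSimpleGroup) ?_).congr e.symm
      intro hc
      exact hG ⟨⟨fun a b => e.injective (by rw [map_mul, map_mul]; exact hc.is_comm.comm _ _)⟩⟩
    · obtain ⟨K, _, _, q, hq, hK, ⟨e⟩⟩ := h
      exact (r5_TwD4 hq hK).congr e.symm
    · exact r5_suzuki hs hG h
    · exact r5_ree h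
    · exact r5_twF4 h
    · exact r5_tits h
  · exact Or.inl (r5_sporadic h)

end Cfsg.Agent.H327.D5
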